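import Cfsg.Agent.Lib.Sporadic.LyOut.Q1

/-!
# A line fixed by the maximal parabolic in the adjoint representation of G2(5) (owner: helper21)

The third coordinate vector spans the only line fixed by the subgroup of order 3125, and the translates of the
last one by that subgroup are 3125 lines, so the stabiliser of the line has index at least 3126.
-/

set_option autoImplicit false
set_option maxRecDepth 20000

namespace CfsgLib.Sporadic.LyOut

open Cfsg
open CfsgLib.Sporadic.LyGTwo (P4 L toLy toAd adUnit adMat evalAd evalAd_eq prod_adUnit adUnit_rel adUnit_flp map_fr fr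
  rels idAd adm)
open CfsgLib.Sporadic.LyRep (Mat toMat enc enc_injective dmul maskN rowsOK)

/-- The adjoint matrices. -/
noncomputable def adR : P4 →* (Mat 14)ˣ :=
  PresentedGroup.toGroup (f := fun i : Fin 4 => adUnit (2 * i.val)) (by
    rintro r ⟨w, hw, rfl⟩
    rw [map_list_prod, List.map_map]
    have hfun : ∀ k ∈ w, (FreeGroup.lift fun i : Fin 4 => adUnit (2 * i.val)) (fr k) = adUnit k := by
      intro k hk
      have h := List.all_eq_true.1 LyGTwo.rels_ad w hw
      simp only [Bool.and_eq_true, List.all_eq_true, Nat.blt_eq, beq_iff_eq] at h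
      exact map_fr _ adUnit adUnit_flp (fun i => FreeGroup.lift_apply_of) (h.1 k hk)
    rw [List.map_congr_left (f := (FreeGroup.lift fun i : Fin 4 => adUnit (2 * i.val)) ∘ fr)
      (g := adUnit) hfun, adUnit_rel hw])

/-- The matrix of an element. -/
noncomputable def adM (x : P4) : Mat 14 := (adR x : (Mat 14)ˣ).val

theorem adM_mul (x y : P4) : adM (x * y) = adM x * adM y := by simp [adM]

theorem adM_one : adM 1 = 1 := by simp [adM]

theorem adR_L {k : ℕ} (hk : k < 8) : adR (L k) = adUnit k :=
  map_fr (adR.comp (PresentedGroup.mk rels)) adUnit adUnit_flp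
    (fun i => show adR (PresentedGroup.of i) = _ from PresentedGroup.toGroup.of _) hk

theorem adM_word {w : List ℕ} (hw : ∀ k ∈ w, k < 8) : adM (w.map L).prod = (w.map adMat).prod := by
  rw [adM, map_list_prod, List.map_map, List.map_congr_left (f := adR ∘ L) (g := adUnit) (fun k hk => adR_L (hw k hk)),
    prod_adUnit hw]

/-- The element of a word in four letters. -/
noncomputable def el4 (w : List ℕ) : P4 := (w.map L).prod

theorem el4_append (u v : List ℕ) : el4 (u ++ v) = el4 u * el4 v := by simp [el4]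

theorem toLy_el4 {w : List ℕ} (hw : w.all (fun k => Nat.blt k 8) = true) : toLy (el4 w) = wd w :=
  toLy_word fun k hk => Nat.blt_eq.mp (List.all_eq_true.1 hw k hk)

theorem enc_el4 {w : List ℕ} (hw : w.all (fun k => Nat.blt k 8) = true) : enc (adM (el4 w)) = evalAd w := by
  have h : ∀ k ∈ w, k < 8 := fun k hk => Nat.blt_eq.mp (List.all_eq_true.1 hw k hk)
  rw [el4, adM_word h, evalAd_eq h]

/-! ### certificates for a fixed line -/

/-- An element with an eigenvalue. -/
abbrev EigWord : Type := List ℕ × ℕ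

/-- The packed matrix of `M - c` times the multiplier, summed. -/
noncomputable def fixSum : List EigWord → List (List (List ℕ)) → Mat 14
  | [], _ => 0
  | _, [] => 0
  | (w, c) :: ws, L :: Ls => ((w.map adMat).prod - (c : ZMod 5) • 1) * toMat 14 L + fixSum ws Ls

/-- The projection to the third coordinate. -/
def projTwo : Mat 14 := Matrix.single 2 2 1

theorem fixSum_vec {v : Fin 14 → ZMod 5} : ∀ (ws : List EigWord) (Ls : List (List (List ℕ))),
    (∀ p ∈ ws, Matrix.vecMul v (p.1.map adMat).prod = (p.2 : ZMod 5) • v) → Matrix.vecMul v (fixSum ws Ls) = 0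
  | [], _, _ => by simp [fixSum]
  | _ :: _, [], _ => by simp [fixSum]
  | (w, c) :: ws, L :: Ls, h => by
    rw [fixSum, Matrix.vecMul_add, ← Matrix.vecMul_vecMul, Matrix.vecMul_sub, h (w, c) List.mem_cons_self,
      Matrix.vecMul_smul, Matrix.vecMul_one, sub_self, Matrix.zero_vecMul, zero_add]
    exact fixSum_vec ws Ls fun p hp => h p (List.mem_cons_of_mem _ hp)

theorem line_of_fix {v : Fin 14 → ZMod 5} {ws : List EigWord} {Ls : List (List (List ℕ))}
    (h : fixSum ws Ls + projTwo = 1)
    (hv : ∀ p ∈ ws, Matrix.vecMul v (p.1.map adMat).prod = (p.2 : ZMod 5) • v) : ∀ j, j ≠ 2 → v j = 0 := by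
  intro j hj
  have e : v = Matrix.vecMul v (fixSum ws Ls + projTwo) := by rw [h, Matrix.vecMul_one]
  rw [Matrix.vecMul_add, fixSum_vec ws Ls hv, zero_add] at e
  rw [e]
  simp [projTwo, Matrix.vecMul, dotProduct, Matrix.single, hj.symm]

/-- The third coordinate vector. -/
def eTwo : Fin 14 → ZMod 5 := Pi.single 2 1

/-- The subgroup fixing the line. -/
noncomputable def lineStab : Subgroup P4 where
  carrier := {x | ∃ a : ZMod 5, Matrix.vecMul eTwo (adM x) = a • eTwo}
  one_mem' := ⟨1, by rw [adM_one, Matrix.vecMul_one, one_smul]⟩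
  mul_mem' := by
    rintro x y ⟨a, ha⟩ ⟨b, hb⟩
    exact ⟨a * b, by rw [adM_mul, ← Matrix.vecMul_vecMul, ha, Matrix.smul_vecMul, hb, smul_smul]⟩
  inv_mem' := by
    rintro x ⟨a, ha⟩
    have h1 : Matrix.vecMul (a • eTwo) (adM x⁻¹) = eTwo := by
      rw [← ha, Matrix.vecMul_vecMul, ← adM_mul, mul_inv_cancel, adM_one, Matrix.vecMul_one]
    have ha0 : a ≠ 0 := by
      intro h0
      rw [h0, zero_smul, Matrix.zero_vecMul] at h1
      have := congrFun h1 2
      simp [eTwo] at this
    refine ⟨a⁻¹, ?_⟩
    rw [Matrix.smul_vecMul] at h1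
    calc Matrix.vecMul eTwo (adM x⁻¹) = a⁻¹ • (a • Matrix.vecMul eTwo (adM x⁻¹)) := by
          rw [smul_smul, inv_mul_cancel₀ ha0, one_smul]
      _ = a⁻¹ • eTwo := by rw [h1]

theorem mem_lineStab_of {x : P4} (h : ∀ j, j ≠ 2 → Matrix.vecMul eTwo (adM x) j = 0) : x ∈ lineStab := by
  refine ⟨Matrix.vecMul eTwo (adM x) 2, funext fun j => ?_⟩
  by_cases hj : j = 2
  · subst hj; simp [eTwo]
  · rw [h j hj]; simp [eTwo, hj]

theorem low_gens : ([[0], [2], [4]] : List (List ℕ)).all (fun w => decide
    (∀ j : Fin 14, j ≠ 2 → ((w.map adMat).prod : Mat 14) 2 j = 0)) = true := by decide +kernel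

theorem vecMul_eTwo (M : Mat 14) : Matrix.vecMul eTwo M = M 2 := by
  funext j; simp [eTwo, Matrix.vecMul, dotProduct, Pi.single_apply]

theorem gen_mem_lineStab {k : ℕ} (hk : k ∈ ([0, 2, 4] : List ℕ)) : L k ∈ lineStab := by
  have hk' : [k] ∈ ([[0], [2], [4]] : List (List ℕ)) := by
    simp only [List.mem_cons, List.not_mem_nil, or_false] at hk ⊢
    rcases hk with rfl | rfl | rfl <;> simp
  have hk8 : ∀ x ∈ [k], x < 8 := by
    simp only [List.mem_cons, List.not_mem_nil, or_false] at hk ⊢
    rintro x rfl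
    rcases hk with rfl | rfl | rfl <;> norm_num
  have h := of_decide_eq_true (List.all_eq_true.1 low_gens _ hk')
  refine mem_lineStab_of fun j hj => ?_
  rw [show L k = ([k].map L).prod by simp, adM_word hk8, vecMul_eTwo]
  exact h j hj

/-- The word of coordinates. -/
def nfW (t : ℕ) : List ℕ :=
  (List.replicate (t % 5) (cw 0)).flatten ++ ((List.replicate (t / 5 % 5) (cw 1)).flatten ++
    ((List.replicate (t / 25 % 5) (cw 2)).flatten ++ ((List.replicate (t / 125 % 5) (cw 3)).flatten ++
      (List.replicate (t / 625 % 5) (cw 4)).flatten)))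

/-- Left multiplication by a word on packed matrices, repeated. -/
noncomputable def levels (w : List ℕ) (X : List ℕ) : List (List ℕ) :=
  (List.range 5).map fun i => (List.replicate i w).flatten.foldr (fun x R => dmul (maskN 14) (adm x) R) X

/-- The packed last coordinate vector. -/
noncomputable def lastVec : ℕ := idAd.getD 13 0

/-- All nontrivial elements move the last line. -/
noncomputable def orbitOK : Bool :=
  ((levels (cw 4) idAd).flatMap fun X4 => (levels (cw 3) X4).flatMap fun X3 => (levels (cw 2) X3).flatMap fun X2 =>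
    (levels (cw 1) X2).flatMap fun X1 => levels (cw 0) X1).tail.all fun X =>
      (List.range 4).all fun a => !(Nat.beq (X.getD 13 0) (Nat.mul (a + 1) lastVec))

theorem orbit_check : orbitOK = true := by decide +kernel

theorem d_moves : Matrix.vecMul eTwo ((([6] : List ℕ).map adMat).prod) = (Pi.single 13 4 : Fin 14 → ZMod 5) := by
  rw [vecMul_eTwo]
  decide +kernel

theorem fixQ_ok : fixSum [(cw 0, 1), (cw 1, 1), (cw 2, 1), (cw 3, 1)] fixQ + projTwo = 1 := by decide +kernel

theorem fixR_ok : fixSum [(cw 0, 1), (cw 2, 1), (cw 3, 1), ([2], 1), ([0, 0], 4)] fixR + projTwo = 1 := by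
  decide +kernel

end CfsgLib.Sporadic.LyOut
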