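import Cfsg.Agent.Lib.Sporadic.LyOut.CommCheck
import Cfsg.Agent.Lib.Sporadic.LyLower.Order
import Cfsg.Prelude.Def_KGroupFacts
import Mathlib.GroupTheory.Sylow
import Mathlib.GroupTheory.IndexNormal
import Mathlib.GroupTheory.SpecificGroups.Cyclic.Basic

/-!
# Adjusting an automorphism of the presented Lyons group by inner ones (owner: helper21)

Up to inner automorphisms an automorphism fixes the subgroup of order 3125 pointwise.
-/

set_option autoImplicit false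
set_option maxRecDepth 20000

namespace CfsgLib.Sporadic.LyOut

open Cfsg
open scoped Pointwise
open CfsgLib.Sporadic.LyGroup (gl gl_flp)

/-- An automorphism as a homomorphism. -/
noncomputable abbrev hom (φ : MulAut Spor.Ly) : Spor.Ly →* Spor.Ly := φ.toMonoidHom

theorem hom_conj (g : Spor.Ly) (φ : MulAut Spor.Ly) : hom (MulAut.conj g * φ) = (cj g).comp (hom φ) := rfl

theorem hom_cj (φ : MulAut Spor.Ly) (g : Spor.Ly) : (hom φ).comp (cj g) = (cj (φ g)).comp (hom φ) := by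
  ext x
  simp [cj_apply]

theorem inner_of {φ : MulAut Spor.Ly} (g : Spor.Ly) (h : MulAut.conj g * φ ∈ Cfsg.Inn Spor.Ly) :
    φ ∈ Cfsg.Inn Spor.Ly := by
  have := mul_mem (inv_mem (show MulAut.conj g ∈ Cfsg.Inn Spor.Ly from ⟨g, rfl⟩)) h
  rwa [inv_mul_cancel_left] at this

theorem not_dvd_index : ¬ 5 ∣ SS.index := by
  have h := SS.index_mul_card
  rw [LyLower.card_eq, card_SS] at h
  rw [Nat.eq_div_of_mul_eq_left (by norm_num) h]
  decide +kernel

theorem exists_conj_SS (φ : MulAut Spor.Ly) :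
    ∃ g, ∀ x ∈ SS, (MulAut.conj g * φ : MulAut Spor.Ly) x ∈ SS := by
  have : Fact (Nat.Prime 5) := ⟨by norm_num⟩
  have : Finite Spor.Ly := LyCoset.finite_Ly
  have hP : IsPGroup 5 SS := IsPGroup.of_card (n := 6) (by rw [card_SS]; norm_num)
  have hc : Nat.card (SS.map (hom φ)) = 15625 := by
    rw [Subgroup.card_map_of_injective (MulEquiv.injective φ), card_SS]
  have hQ : IsPGroup 5 (SS.map (hom φ)) := IsPGroup.of_card (n := 6) (by rw [hc]; norm_num)
  have hidx : ¬ 5 ∣ (SS.map (hom φ)).index := by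
    show ¬ 5 ∣ (SS.map (φ : Spor.Ly →* Spor.Ly)).index
    rw [Subgroup.index_map_equiv SS φ]
    exact not_dvd_index
  obtain ⟨g, hg⟩ := MulAction.exists_smul_eq Spor.Ly (hQ.toSylow hidx) (hP.toSylow not_dvd_index)
  refine ⟨g, fun x hx => ?_⟩
  have h' := congrArg Sylow.toSubgroup hg
  rw [Sylow.coe_subgroup_smul] at h'
  have h'' : MulAut.conj g • φ x ∈ MulAut.conj g • (SS.map (hom φ)) :=
    Subgroup.smul_mem_pointwise_smul _ _ _ (Subgroup.mem_map_of_mem (hom φ) hx)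
  change MulAut.conj g • φ x ∈ MulAut.conj g • (hQ.toSylow hidx).toSubgroup at h''
  rw [h'] at h''
  exact h''

/-! ### commutators -/

theorem comm_nf (v w : Vec) (k l : ZMod 5) :
    nf v k * nf w l * (nf v k)⁻¹ * (nf w l)⁻¹ = nf 0 (bil v w - bil w v) := by
  have e : nf v k * nf w l = nf 0 (bil v w - bil w v) * (nf w l * nf v k) := by
    rw [nf_mul, nf_mul, nf_mul, zero_add, add_comm w v, show bil 0 (v + w) = 0 by simp [bil]]
    congr 1
    ring
  rw [e]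
  group

theorem nf_zero_zp (k : ZMod 5) : nf 0 k = zp (cc 4) k := by simp [nf, zp_zero]

theorem zp_pow (k : ZMod 5) (n : ℕ) : zp (cc 4) k ^ n = zp (cc 4) (k * n) := by
  rw [zp, ← pow_mul, zp_mul_nat (cc_pow 4 (by norm_num)), Nat.cast_mul, ZMod.natCast_zmod_val]

/-- Sending the subgroup of order 3125 into itself. -/
def KeepsQ (φ : MulAut Spor.Ly) : Prop := ∀ q ∈ QQ, φ q ∈ QQ

theorem KeepsQ.surj {φ : MulAut Spor.Ly} (h : KeepsQ φ) {q : Spor.Ly} (hq : q ∈ QQ) : ∃ r ∈ QQ, φ r = q := by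
  let f : QQ → QQ := fun r => ⟨φ r, h r r.2⟩
  have hf : Function.Injective f := fun a b e => Subtype.ext (φ.injective (congrArg Subtype.val e))
  obtain ⟨r, hr⟩ := (Finite.injective_iff_surjective.1 hf) ⟨q, hq⟩
  exact ⟨r, r.2, congrArg Subtype.val hr⟩

theorem KeepsQ.normalizes {φ : MulAut Spor.Ly} (h : KeepsQ φ) {n : Spor.Ly} (hn : Normalizes n) :
    Normalizes (φ n) := by
  intro q hq
  obtain ⟨r, hr, rfl⟩ := h.surj hq
  rw [← map_inv, ← map_mul, ← map_mul]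
  exact h _ (hn r hr)

theorem KeepsQ.conj_mul {φ : MulAut Spor.Ly} (h : KeepsQ φ) {g : Spor.Ly} (hg : Normalizes g) :
    KeepsQ (MulAut.conj g * φ) := fun q hq => hg _ (h q hq)

theorem mb_vals : app MB ((0, 3, 3, 2) : Vec) - (0, 3, 3, 2) = unitVec 0 ∧
    app MB ((0, 3, 2, 2) : Vec) - (0, 3, 2, 2) = unitVec 2 ∧
    bil (unitVec 2) (unitVec 0) - bil (unitVec 0) (unitVec 2) = (2 : ZMod 5) ∧ (2 : ZMod 5) ≠ 0 := by decide +kernel

theorem mb_moves : ∀ n : Fin 5, n.val ≠ 0 → app (MBp n.val) (unitVec 0) - unitVec 0 ≠ 0 := by decide +kernel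

theorem keepsQ_of_SS {φ : MulAut Spor.Ly} (h : ∀ x ∈ SS, φ x ∈ SS) : KeepsQ φ := by
  have : Fact (Nat.Prime 5) := ⟨by norm_num⟩
  let M : Subgroup Spor.Ly := QQ.map (hom φ)
  have hM : M ≤ SS := by
    rintro _ ⟨q, hq, rfl⟩
    exact h q (QQ_le_SS hq)
  have hMc : Nat.card (M.subgroupOf SS) = 3125 := by
    rw [Nat.card_congr (Subgroup.subgroupOfEquivOfLe hM).toEquiv,
      Subgroup.card_map_of_injective (MulEquiv.injective φ), cards.1]
  have hidx : (M.subgroupOf SS).index = 5 := by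
    have := (M.subgroupOf SS).card_mul_index
    rw [hMc, card_SS] at this
    omega
  have hn : (M.subgroupOf SS).Normal := Subgroup.normal_of_index_eq_minFac_card (by
    rw [hidx, card_SS, show (15625 : ℕ) = 5 ^ 6 by norm_num, Nat.Prime.pow_minFac (by norm_num) (by norm_num)])
  -- commutators
  have hcomm : ∀ x ∈ SS, ∀ y ∈ SS, x * y * x⁻¹ * y⁻¹ ∈ M := by
    intro x hx y hy
    have : IsCyclic (SS ⧸ M.subgroupOf SS) := isCyclic_of_prime_card (p := 5) hidx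
    obtain ⟨t, ht⟩ := IsCyclic.exists_generator (α := SS ⧸ M.subgroupOf SS)
    obtain ⟨i, hi⟩ := Subgroup.mem_zpowers_iff.1 (ht (⟨x, hx⟩ : SS))
    obtain ⟨j, hj⟩ := Subgroup.mem_zpowers_iff.1 (ht (⟨y, hy⟩ : SS))
    have hm : (⟨x, hx⟩ : SS) * ⟨y, hy⟩ * (⟨x, hx⟩ : SS)⁻¹ * (⟨y, hy⟩ : SS)⁻¹ ∈ M.subgroupOf SS := by
      rw [← QuotientGroup.eq_one_iff]
      simp only [QuotientGroup.mk_mul, QuotientGroup.mk_inv, ← hi, ← hj]
      rw [(Commute.zpow_zpow_self t i j).eq]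
      group
    exact hm
  have hX : ∀ k, nf 0 k ∈ M := fun k => by
    have := hcomm _ (QQ_le_SS (nf_mem (sm k (unitVec 2)) 0)) _ (QQ_le_SS (nf_mem (unitVec 1) 0))
    rw [comm_nf] at this
    simpa [bil, sm, unitVec] using this
  have hdiff : ∀ v l, gl 2 * nf v l * (gl 2)⁻¹ * (nf v l)⁻¹ ∈ M := fun v l =>
    hcomm _ b_mem_SS _ (QQ_le_SS (nf_mem v l))
  have hfirst : ∀ v, nf (app MB v - v) 0 ∈ M := fun v => by
    obtain ⟨l, e⟩ := lin_b v 0
    have h' := hdiff v 0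
    rw [← cj_apply, e, nf_inv, nf_mul, ← sub_eq_add_neg] at h'
    have := mul_mem h' (hX (-(l + (-0 + bil v v) + bil (app MB v) (-v))))
    rwa [nf_mul, add_zero, show bil (app MB v - v) 0 = 0 by simp [bil], add_zero, add_neg_cancel] at this
  have h0 : nf (unitVec 0) 0 ∈ M := by
    have := hfirst (0, 3, 3, 2)
    rwa [mb_vals.1] at this
  have h2 : nf (unitVec 2) 0 ∈ M := by
    have := hfirst (0, 3, 2, 2)
    rwa [mb_vals.2.1] at this
  -- commutators inside the image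
  have hMX : ∀ x ∈ M, ∀ y ∈ M, ∃ k, x * y * x⁻¹ * y⁻¹ = φ (nf 0 k) := by
    rintro _ ⟨_, ⟨v, k, rfl⟩, rfl⟩ _ ⟨_, ⟨w, l, rfl⟩, rfl⟩
    exact ⟨_, by rw [← comm_nf v w k l]; simp⟩
  obtain ⟨k, hk⟩ := hMX _ h2 _ h0
  rw [comm_nf, mb_vals.2.2.1] at hk
  have hk0 : k ≠ 0 := by
    rintro rfl
    rw [nf_zero, map_one, ← nf_zero] at hk
    exact mb_vals.2.2.2 (nf_injective hk).2
  have hXX : ∀ l, φ (nf 0 l) ∈ XX := by
    intro l
    obtain ⟨n, hn'⟩ : ∃ n : ℕ, l = k * n := ⟨(k⁻¹ * l).val, by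
      rw [ZMod.natCast_zmod_val, ← mul_assoc, mul_inv_cancel₀ hk0, one_mul]⟩
    rw [nf_zero_zp, hn', ← zp_pow, map_pow, ← nf_zero_zp, ← hk]
    exact pow_mem (show nf 0 (2 : ZMod 5) ∈ XX from ⟨2, rfl⟩) n
  intro q hq
  have hqM : φ q ∈ M := ⟨q, hq, rfl⟩
  obtain ⟨r, hr, i, hi⟩ := hM hqM
  by_contra hne
  have hi5 : i % 5 ≠ 0 := fun h0 => hne (by
    rw [hi, pow_eq_pow_mod i b_five, h0, pow_zero, mul_one]
    exact hr)
  obtain ⟨l, hl⟩ := hMX _ hqM _ h0
  obtain ⟨l', hl'⟩ := hXX l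
  rw [hl'] at hl
  obtain ⟨m, em⟩ := ((cj_QQ_lin hr).comp (lin_b_pow i)) (unitVec 0) 0
  rw [← cj_mul, cj_apply, ← hi, id_comp] at em
  rw [em, nf_inv, nf_mul, ← sub_eq_add_neg] at hl
  have hv : app (MBp i) (unitVec 0) - unitVec 0 = 0 := (nf_injective hl).1
  have hp : ∀ n : ℕ, MBp n = MBp (n % 5) := by
    intro n
    have e := lin_b_pow n
    rw [pow_eq_pow_mod n b_five] at e
    exact e.unique (lin_b_pow _)
  rw [hp] at hv
  exact mb_moves ⟨i % 5, Nat.mod_lt _ (by norm_num)⟩ hi5 hv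

/-! ### fixing the image of the second letter modulo the subgroup of order 3125 -/

/-- A word squaring the second letter. -/
def wH : List ℕ := [0, 2, 2, 2, 0, 2, 0]

theorem wH_conj : wd wH * gl 2 * (wd wH)⁻¹ = gl 2 ^ 2 := by
  have h : LyMult.eqA (wH ++ [2] ++ PairEnum.winv wH) [2, 2] = true := by decide +kernel
  have e := wd_eq h
  rw [wd_append, wd_append, wd_winv] at e
  rw [pow_two]
  simpa [wd] using e

theorem wH_normalizes : Normalizes (wd wH) := normalizes_PQ (wd_mem_PQ (by decide +kernel))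

/-- Sending the second letter into its own coset. -/
def KeepsB (φ : MulAut Spor.Ly) : Prop := ∃ q ∈ QQ, φ (gl 2) = q * gl 2

theorem exists_adjust_b {φ : MulAut Spor.Ly} (h : ∀ x ∈ SS, φ x ∈ SS) :
    ∃ g, KeepsQ (MulAut.conj g * φ) ∧ KeepsB (MulAut.conj g * φ) := by
  have hQ := keepsQ_of_SS h
  obtain ⟨q, hq, k, hk⟩ := h _ b_mem_SS
  have hk0 : k % 5 ≠ 0 := fun h0 => by
    have hb : φ (gl 2) ∈ QQ := by
      rw [hk, pow_eq_pow_mod k b_five, h0, pow_zero, mul_one]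
      exact hq
    obtain ⟨r, hr, e⟩ := hQ.surj hb
    have := b_pow_mem (n := 1) (by rw [pow_one, ← φ.injective e]; exact hr)
    omega
  have hnorm : ∀ j, Normalizes (wd wH ^ j) := by
    intro j
    induction j with
    | zero => intro x hx; simpa using hx
    | succ j ih => rw [pow_succ]; exact ih.mul wH_normalizes
  have hpow : ∀ j, wd wH ^ j * gl 2 * (wd wH ^ j)⁻¹ = gl 2 ^ (2 ^ j) := by
    intro j
    induction j with
    | zero => simp
    | succ j ih =>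
      calc wd wH ^ (j + 1) * gl 2 * (wd wH ^ (j + 1))⁻¹
          = wd wH ^ j * (wd wH * gl 2 * (wd wH)⁻¹) * (wd wH ^ j)⁻¹ := by rw [pow_succ]; group
        _ = (wd wH ^ j * gl 2 * (wd wH ^ j)⁻¹) ^ 2 := by rw [wH_conj, conj_pow]
        _ = _ := by rw [ih, ← pow_mul, pow_succ]
  obtain ⟨j, hj⟩ : ∃ j : Fin 4, 2 ^ j.val * (k % 5) % 5 = 1 := by
    have := Nat.mod_lt k (show 5 > 0 by norm_num)
    interval_cases hh : k % 5
    · exact absurd rfl hk0
    all_goals decide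
  refine ⟨wd wH ^ j.val, hQ.conj_mul (hnorm _), wd wH ^ j.val * q * (wd wH ^ j.val)⁻¹, hnorm _ q hq, ?_⟩
  calc (MulAut.conj (wd wH ^ j.val) * φ) (gl 2)
      = wd wH ^ j.val * q * (wd wH ^ j.val)⁻¹ * (wd wH ^ j.val * gl 2 * (wd wH ^ j.val)⁻¹) ^ k := by
        rw [MulAut.mul_apply, MulAut.conj_apply, hk, conj_pow]; group
    _ = _ := by
        rw [hpow, ← pow_mul, pow_eq_pow_mod _ b_five, show 2 ^ j.val * k % 5 = 1 by rwa [Nat.mul_mod_mod] at hj,
          pow_one]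

/-! ### the induced matrix lies in the image of the normaliser -/

theorem keepsQ_lin {φ : MulAut Spor.Ly} (hQ : KeepsQ φ) : ∃ G, Lin (hom φ) G := by
  have e : ∀ i < 5, ∃ v l, φ (cc i) = nf v l := fun i hi => hQ _ (cc_mem hi)
  obtain ⟨v0, l0, e0⟩ := e 0 (by norm_num)
  obtain ⟨v1, l1, e1⟩ := e 1 (by norm_num)
  obtain ⟨v2, l2, e2⟩ := e 2 (by norm_num)
  obtain ⟨v3, l3, e3⟩ := e 3 (by norm_num)
  refine ⟨(v0, v1, v2, v3), lin_of_gens ⟨l0, e0⟩ ⟨l1, e1⟩ ⟨l2, e2⟩ ⟨l3, e3⟩ ⟨bil v2 v1 - bil v1 v2, ?_⟩⟩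
  have : cc 4 = cc 2 * cc 1 * (cc 2)⁻¹ * (cc 1)⁻¹ := by
    rw [cc_eq_nf (by norm_num : 2 < 4), cc_eq_nf (by norm_num : 1 < 4), comm_nf, four_eq_nf]
    congr 1
  show φ (cc 4) = _
  rw [this, map_mul, map_mul, map_mul, map_inv, map_inv, e2, e1, comm_nf]

theorem app_add (M : Cols) (u v : Vec) : app M (u + v) = app M u + app M v := by
  obtain ⟨⟨m00, m01, m02, m03⟩, ⟨m10, m11, m12, m13⟩, ⟨m20, m21, m22, m23⟩, ⟨m30, m31, m32, m33⟩⟩ := M
  obtain ⟨a0, a1, a2, a3⟩ := u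
  obtain ⟨b0, b1, b2, b3⟩ := v
  simp only [app, sm, Prod.mk_add_mk, Prod.mk.injEq]
  exact ⟨by ring, by ring, by ring, by ring⟩

theorem app_sm (M : Cols) (a : ZMod 5) (v : Vec) : app M (sm a v) = sm a (app M v) := by
  obtain ⟨⟨m00, m01, m02, m03⟩, ⟨m10, m11, m12, m13⟩, ⟨m20, m21, m22, m23⟩, ⟨m30, m31, m32, m33⟩⟩ := M
  obtain ⟨a0, a1, a2, a3⟩ := v
  simp only [app, sm, Prod.mk_add_mk, Prod.mk.injEq]
  exact ⟨by ring, by ring, by ring, by ring⟩

theorem gW_unit : ∀ j : Fin 4, numV (app (gW (unitVec 1)) (unitVec j.val)) = numV (unitVec j.val) := by decide +kernel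

theorem eq_gW {G : Cols} (h : comp G MB = comp MB G) : G = gW (app G (unitVec 1)) := by
  have hn : ∀ v, app G (nB v) = nB (app G v) := fun v => by
    rw [nB, nB, app_add, app_sm, ← app_comp, ← app_comp, h]
  have e : ∀ j : Fin 4, app G (unitVec j.val) = app (gW (app G (unitVec 1))) (unitVec j.val) := by
    intro j
    conv_lhs => rw [← numV_inj (gW_unit j)]
    have hcol : ∀ (M : Cols) (i : Fin 4), app M (unitVec i.val) =
        (![M.1, M.2.1, M.2.2.1, M.2.2.2] : Fin 4 → Vec) i := by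
      intro M i
      obtain ⟨⟨m00, m01, m02, m03⟩, ⟨m10, m11, m12, m13⟩, ⟨m20, m21, m22, m23⟩, ⟨m30, m31, m32, m33⟩⟩ := M
      fin_cases i <;> simp [app, sm, unitVec]
    rw [hcol, hcol]
    fin_cases j <;> simp [gW, app_add, app_sm, hn]
  have e0 : app G (unitVec 0) = app (gW (app G (unitVec 1))) (unitVec 0) := e 0
  have e1 : app G (unitVec 1) = app (gW (app G (unitVec 1))) (unitVec 1) := e 1
  have e2 : app G (unitVec 2) = app (gW (app G (unitVec 1))) (unitVec 2) := e 2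
  have e3 : app G (unitVec 3) = app (gW (app G (unitVec 1))) (unitVec 3) := e 3
  generalize gW (app G (unitVec 1)) = K at e0 e1 e2 e3 ⊢
  have h' : comp G idC = comp K idC := Prod.ext e0 (Prod.ext e1 (Prod.ext e2 e3))
  rwa [comp_id, comp_id] at h'

theorem vKill_ne : vKill ≠ 0 := by decide +kernel

theorem induced_inG {φ : MulAut Spor.Ly} (hQ : KeepsQ φ) (hB : KeepsB φ) {G : Cols} (hG : Lin (hom φ) G) :
    inG G = true := by
  obtain ⟨q, hq, hb⟩ := hB
  have hcomm : comp G MB = comp MB G := by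
    refine (hG.comp lin_b).unique ?_
    rw [hom_cj, hb, cj_mul]
    have := ((cj_QQ_lin hq).comp lin_b).comp hG
    rwa [id_comp] at this
  have hsymm : KeepsQ φ⁻¹ := by
    intro x hx
    obtain ⟨r, hr, rfl⟩ := hQ.surj hx
    rwa [show φ⁻¹ (φ r) = r from φ.symm_apply_apply r]
  obtain ⟨H, hH⟩ := keepsQ_lin hsymm
  have hinv : comp H G = idC := by
    refine (hH.comp hG).unique ?_
    rw [show (hom φ⁻¹).comp (hom φ) = MonoidHom.id _ from MonoidHom.ext φ.symm_apply_apply]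
    exact Lin_id
  have hw : G = gW (app G (unitVec 1)) := eq_gW hcomm
  obtain ⟨hs, hn⟩ := comm_sound (w := app G (unitVec 1))
  rw [← hw] at hs hn
  have h0 : (app G (unitVec 1)).2.1 ≠ 0 := fun h0 => by
    have h2 := congrArg (app H) (hs h0)
    rw [← app_comp, hinv, app_id, show app H 0 = 0 by simp [app, sm]] at h2
    exact vKill_ne h2
  obtain ⟨K, hK, hor⟩ := hn h0
  refine hor ?_
  obtain ⟨M, hM, hin⟩ := norm_image (hQ.normalizes (normalizes_of_lin lin_a))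
  have h1 : comp G MA = comp M G := (hG.comp lin_a).unique (by rw [hom_cj]; exact hM.comp hG)
  rw [h1, comp_assoc, hK, comp_id, hin]

/-! ### fixing the subgroup pointwise -/

/-- A vector with prescribed commutators. -/
def wOf (l : Vec) : Vec :=
  sm (-l.1) ((0, 3, 0, 3) : Vec) + sm (-l.2.1) ((2, 0, 4, 4) : Vec) + sm (-l.2.2.1) ((0, 1, 0, 2) : Vec) +
    sm (-l.2.2.2) ((2, 1, 3, 0) : Vec)

theorem wOf_check : ((List.range 625).all fun t => let w := wOf (vecOf t);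
    Nat.beq (numV (bil w (unitVec 0) - bil (unitVec 0) w, bil w (unitVec 1) - bil (unitVec 1) w,
      bil w (unitVec 2) - bil (unitVec 2) w, bil w (unitVec 3) - bil (unitVec 3) w)) (numV (-vecOf t))) = true := by
  decide +kernel

/-- Fixing the subgroup of order 3125 pointwise. -/
def FixesQ (φ : MulAut Spor.Ly) : Prop := ∀ q ∈ QQ, φ q = q

theorem fixesQ_of_gens {φ : MulAut Spor.Ly} (h : ∀ i < 5, φ (cc i) = cc i) : FixesQ φ := by
  rintro _ ⟨v, k, rfl⟩
  simp only [nf, zp, map_mul, map_pow, h 0 (by norm_num), h 1 (by norm_num), h 2 (by norm_num), h 3 (by norm_num),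
    h 4 (by norm_num)]

theorem exists_fixesQ_of_id {φ : MulAut Spor.Ly} (hG : Lin (hom φ) idC) : ∃ g, FixesQ (MulAut.conj g * φ) := by
  have e : ∀ i < 4, ∃ l, φ (cc i) = nf (unitVec i) l := fun i hi => by
    obtain ⟨l, hl⟩ := hG (unitVec i) 0
    rw [app_id, ← cc_eq_nf hi] at hl
    exact ⟨l, hl⟩
  obtain ⟨l0, e0⟩ := e 0 (by norm_num)
  obtain ⟨l1, e1⟩ := e 1 (by norm_num)
  obtain ⟨l2, e2⟩ := e 2 (by norm_num)
  obtain ⟨l3, e3⟩ := e 3 (by norm_num)
  have e4 : φ (cc 4) = cc 4 := by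
    have : cc 4 = cc 2 * cc 1 * (cc 2)⁻¹ * (cc 1)⁻¹ := by
      rw [cc_eq_nf (by norm_num : 2 < 4), cc_eq_nf (by norm_num : 1 < 4), comm_nf, four_eq_nf]
      congr 1
    rw [this, map_mul, map_mul, map_mul, map_inv, map_inv, e2, e1, comm_nf, ← this, four_eq_nf]
    congr 1
  set l : Vec := (l0, l1, l2, l3) with hl
  have hw := List.all_eq_true.1 wOf_check (numV l) (List.mem_range.2 (numV_lt l))
  rw [vecOf_numV] at hw
  have hw' := numV_inj (Nat.eq_of_beq_eq_true hw)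
  simp only [hl, Prod.neg_mk, Prod.mk.injEq] at hw'
  obtain ⟨w0, w1, w2, w3⟩ := hw'
  refine ⟨nf (wOf l) 0, fixesQ_of_gens fun i hi => ?_⟩
  have key : ∀ u m, nf (wOf l) 0 * nf u m * (nf (wOf l) 0)⁻¹ = nf u (bil (wOf l) u - bil u (wOf l) + m) := fun u m => by
    have := comm_nf (wOf l) u 0 m
    rw [mul_inv_eq_iff_eq_mul] at this
    rw [this, nf_mul, zero_add, show bil 0 u = 0 by simp [bil], add_zero]
  have hc : ∀ j < 4, ∀ m, φ (cc j) = nf (unitVec j) m → bil (wOf l) (unitVec j) - bil (unitVec j) (wOf l) = -m →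
      (MulAut.conj (nf (wOf l) 0) * φ) (cc j) = cc j := fun j hj m hm hd => by
    rw [MulAut.mul_apply, MulAut.conj_apply, hm, key, hd, neg_add_cancel, cc_eq_nf hj]
  interval_cases i
  · exact hc 0 (by norm_num) l0 e0 w0
  · exact hc 1 (by norm_num) l1 e1 w1
  · exact hc 2 (by norm_num) l2 e2 w2
  · exact hc 3 (by norm_num) l3 e3 w3
  · rw [MulAut.mul_apply, MulAut.conj_apply, e4]
    have := (cc_comm_four 4 (by norm_num)).eq
    rw [four_eq_nf, (nf_zero_comm 1 (wOf l) 0).symm.eq, mul_inv_cancel_right]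

theorem exists_fixesQ (φ : MulAut Spor.Ly) : ∃ g, FixesQ (MulAut.conj g * φ) := by
  obtain ⟨g1, h1⟩ := exists_conj_SS φ
  obtain ⟨g2, hQ, hB⟩ := exists_adjust_b h1
  obtain ⟨G, hG⟩ := keepsQ_lin hQ
  obtain ⟨n, hn⟩ := inG_realised (induced_inG hQ hB hG)
  obtain ⟨M, hM, -⟩ := norm_image (normalizes_of_lin hn).inv
  have hid : comp M G = idC := (hM.comp hn).unique (by rw [← cj_mul, inv_mul_cancel, cj_one]; exact Lin_id)
  have hlin : Lin (hom (MulAut.conj n⁻¹ * (MulAut.conj g2 * (MulAut.conj g1 * φ)))) idC := by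
    rw [hom_conj, ← hid]
    exact hM.comp hG
  obtain ⟨g3, h3⟩ := exists_fixesQ_of_id hlin
  refine ⟨g3 * n⁻¹ * g2 * g1, ?_⟩
  simpa only [map_mul, mul_assoc] using h3

end CfsgLib.Sporadic.LyOut
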