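import Cfsg.Agent.Lib.Sporadic.LyOut.NormImage
import Cfsg.Agent.Lib.Sporadic.LyOut.CommData

/-!
# The matrices commuting with the second one that normalise the image of the normaliser (owner: helper21)

Of the 625 candidates only those in the image itself carry the first matrix into it.
-/

set_option autoImplicit false
set_option maxRecDepth 20000

namespace CfsgLib.Sporadic.LyOut

/-- The second matrix minus the identity. -/
def nB (v : Vec) : Vec := app MB v + sm 4 v

/-- The matrix commuting with the second one and sending the second basis vector to `w`. -/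
def gW (w : Vec) : Cols :=
  (sm 3 (nB w) + sm 2 (nB (nB (nB w))), w, sm 3 (nB w) + sm 2 (nB (nB w)),
    sm 3 (nB w) + sm 3 (nB (nB w)) + sm 2 (nB (nB (nB w))))

/-- A vector killed by every singular one of the commuting matrices. -/
def vKill : Vec := nB (nB (nB (unitVec 1)))

/-- Looking up a code. -/
noncomputable def find (c : ℕ) : Bool := (glBuckets.getD (c % 31) []).any fun d => Nat.beq d c

theorem find_ok : (glTwo.all find && glBuckets.flatten.all fun d => glTwo.any fun c => Nat.beq c d) = true := by
  decide +kernel

theorem find_iff (M : Cols) : find (encC M) = inGL M := by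
  have h := find_ok
  simp only [Bool.and_eq_true, List.all_eq_true, List.mem_flatten] at h
  rw [Bool.eq_iff_iff, inGL]
  constructor
  · intro hf
    simp only [find, List.any_eq_true, Nat.beq_eq] at hf
    obtain ⟨d, hd, rfl⟩ := hf
    refine h.2 _ ⟨_, ?_, hd⟩
    rcases Nat.lt_or_ge (encC M % 31) glBuckets.length with hl | hl
    · rw [List.getD_eq_getElem _ _ hl]
      exact List.getElem_mem hl
    · rw [List.getD_eq_default _ _ hl] at hd
      simp at hd
  · intro hf
    simp only [List.any_eq_true, Nat.beq_eq] at hf
    obtain ⟨c, hc, rfl⟩ := hf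
    exact h.1 _ hc

theorem vecOf_numV_add (v : Vec) (k : ℕ) : vecOf (numV v + 625 * k) = v := by
  apply numV_inj
  have := numV_lt v
  have := ZMod.val_lt v.1; have := ZMod.val_lt v.2.1; have := ZMod.val_lt v.2.2.1; have := ZMod.val_lt v.2.2.2
  simp only [numV, vecOf, ZMod.val_natCast] at *
  omega

theorem decC_encC (M : Cols) : decC (encC M) = M := by
  obtain ⟨m0, m1, m2, m3⟩ := M
  have := numV_lt m0; have := numV_lt m1; have := numV_lt m2; have := numV_lt m3
  simp only [decC, encC, Prod.mk.injEq]
  refine ⟨vecOf_numV_add _ _, ?_, ?_, ?_⟩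
  · rw [show (numV m0 + 625 * (numV m1 + 625 * (numV m2 + 625 * numV m3))) / 625 =
      numV m1 + 625 * (numV m2 + 625 * numV m3) by omega]
    exact vecOf_numV_add _ _
  · rw [show (numV m0 + 625 * (numV m1 + 625 * (numV m2 + 625 * numV m3))) / 390625 =
      numV m2 + 625 * numV m3 by omega]
    exact vecOf_numV_add _ _
  · rw [show (numV m0 + 625 * (numV m1 + 625 * (numV m2 + 625 * numV m3))) / 244140625 = numV m3 + 625 * 0 by omega]
    exact vecOf_numV_add _ _

/-- Membership in the image of the normaliser of a coded matrix. -/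
noncomputable def inGc (c : ℕ) : Bool :=
  sixInv.any fun r => LyRep.strict (encC (comp (mL r) (decC c))) find

theorem inGc_eq (M : Cols) : inGc (encC M) = inG M := by
  simp only [inGc, inG, LyRep.strict_eq, decC_encC, find_iff]

/-- The check on one matrix. -/
noncomputable def commOne (t : ℕ) : Bool :=
  cond (Nat.beq (t / 5 % 5) 0) (Nat.beq (numV (app (gW (vecOf t)) vKill)) 0)
    (LyRep.strict (encC (gW (vecOf t))) fun g =>
      LyRep.strict (encC (gW (vecOf (invTab.getD t 0)))) fun h =>
        Nat.beq (encC (comp (decC g) (decC h))) (encC idC) &&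
          (inGc g || !(LyRep.strict (encC (comp (comp (decC g) MA) (decC h))) inGc)))

theorem comm_check : (List.range 625).all commOne = true := by decide +kernel

theorem comm_sound {w : Vec} :
    (w.2.1 = 0 → app (gW w) vKill = 0) ∧
      (w.2.1 ≠ 0 → ∃ H, comp (gW w) H = idC ∧ (inG (comp (comp (gW w) MA) H) = true → inG (gW w) = true)) := by
  have h := List.all_eq_true.1 comm_check (numV w) (List.mem_range.2 (numV_lt w))
  have hd : numV w / 5 % 5 = w.2.1.val := by
    have := ZMod.val_lt w.1; have := ZMod.val_lt w.2.1; have := ZMod.val_lt w.2.2.1; have := ZMod.val_lt w.2.2.2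
    simp only [numV]
    omega
  rw [commOne, vecOf_numV, hd] at h
  refine ⟨fun h0 => ?_, fun h0 => ?_⟩
  · rw [h0, show Nat.beq (0 : ZMod 5).val 0 = true from rfl, cond_true] at h
    exact numV_inj ((Nat.eq_of_beq_eq_true h).trans (by decide +kernel))
  · have hb : Nat.beq w.2.1.val 0 = false := by
      rw [Bool.eq_false_iff]
      intro hb
      exact h0 ((ZMod.val_eq_zero _).1 (Nat.eq_of_beq_eq_true hb))
    rw [hb, cond_false] at h
    simp only [LyRep.strict_eq, decC_encC, inGc_eq, Bool.and_eq_true, Bool.or_eq_true, Bool.not_eq_true',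
      Nat.beq_eq] at h
    refine ⟨_, encC_inj h.1, fun hin => h.2.resolve_right ?_⟩
    rw [hin]
    simp

end CfsgLib.Sporadic.LyOut
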