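import Cfsg.Agent.Lib.Sporadic.LyOut.Adjust

/-!
# Every automorphism of the presented Lyons group is inner (owner: helper21)

An automorphism fixing the subgroup of order 3125 pointwise moves every element normalising it by a central
element of that subgroup; so after one more adjustment it fixes the letters `a, b, c, z`, then the involution `e`
and with it `d`.
-/

set_option autoImplicit false
set_option maxRecDepth 20000

namespace CfsgLib.Sporadic.LyOut

open Cfsg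
open CfsgLib.Sporadic.LyGTwo (P4 toLy toLy_injective adMat)
open CfsgLib.Sporadic.LyGroup (gl gl_flp gl_rel relWords gl_closure)
open CfsgLib.Sporadic.LyCoset (N0 Z Z_sq)

theorem defect_mem {φ : MulAut Spor.Ly} (hF : FixesQ φ) {n : Spor.Ly} (hn : Normalizes n) :
    ∃ k, φ n = zp (cc 4) k * n := by
  obtain ⟨k, hk⟩ := cent_QQ (c := φ n * n⁻¹) (fun q hq => by
    obtain ⟨r, hr, rfl⟩ := hn.surj hq
    have e : φ (n * r * n⁻¹) = φ n * r * (φ n)⁻¹ := by rw [map_mul, map_mul, map_inv, hF r hr]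
    rw [hF _ hq] at e
    calc φ n * n⁻¹ * (n * r * n⁻¹) = φ n * r * (φ n)⁻¹ * (φ n * n⁻¹) := by group
      _ = _ := by rw [← e])
  exact ⟨k, by rw [← nf_zero_zp, ← hk, inv_mul_cancel_right]⟩

theorem act_center {g : Spor.Ly} {n : ℕ} (hg : g * cc 4 * g⁻¹ = cc 4 ^ n) (t : ZMod 5) :
    g * zp (cc 4) t * g⁻¹ = zp (cc 4) (n * t) := by
  rw [zp, ← conj_pow, hg, ← pow_mul, zp_mul_nat (cc_pow 4 (by norm_num)), Nat.cast_mul, ZMod.natCast_zmod_val]

theorem zp_four_mul (s t : ZMod 5) : zp (cc 4) s * zp (cc 4) t = zp (cc 4) (s + t) :=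
  (zp_add (cc_pow 4 (by norm_num)) s t).symm

theorem zp_four_inj {s : ZMod 5} (h : zp (cc 4) s = 1) : s = 0 := by
  rw [← nf_zero_zp, ← nf_zero] at h
  exact (nf_injective h).2

theorem zp_four_inv (s : ZMod 5) : (zp (cc 4) s)⁻¹ = zp (cc 4) (-s) :=
  inv_eq_of_mul_eq_one_right (by rw [zp_four_mul, add_neg_cancel, zp_zero])

theorem a_center : gl 0 * cc 4 * (gl 0)⁻¹ = cc 4 ^ 3 := by
  have h : LyMult.eqA ([0] ++ cw 4 ++ PairEnum.winv [0]) (cw 4 ++ cw 4 ++ cw 4) = true := by decide +kernel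
  have e := wd_eq h
  rw [wd_append, wd_append, wd_winv, wd_append, wd_append] at e
  rw [show gl 0 = wd [0] by simp [wd], pow_succ, pow_two]
  exact e

theorem aa_center : wd [0, 0] * cc 4 * (wd [0, 0])⁻¹ = cc 4 ^ 4 := by
  have h : LyMult.eqA ([0, 0] ++ cw 4 ++ PairEnum.winv [0, 0]) (cw 4 ++ cw 4 ++ cw 4 ++ cw 4) = true := by
    decide +kernel
  have e := wd_eq h
  rw [wd_append, wd_append, wd_winv, wd_append, wd_append, wd_append] at e
  rw [pow_succ, pow_succ, pow_two]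
  exact e

theorem Z_center : Z * cc 4 * Z⁻¹ = cc 4 ^ 3 := by
  have e := cj_Z_gen 4 (by norm_num)
  rw [cj_apply] at e
  rw [e, show vecOf (tsZ.getD 4 0) = 0 by decide +kernel, show ((tsZ.getD 4 0 / 625 : ℕ) : ZMod 5) = 3 by decide +kernel,
    nf_zero_zp, zp, show (3 : ZMod 5).val = 3 from rfl]

theorem aa_b : wd [0, 0] * gl 2 = gl 2 * wd [0, 0] := by
  have h : LyMult.eqA [0, 0, 2] [2, 0, 0] = true := by decide +kernel
  simpa [wd, mul_assoc] using wd_eq h

theorem normalizes_gl {k : ℕ} (hk : k < 6) : Normalizes (gl k) := normalizes_PQ (gl_mem_PQ k hk)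

theorem exists_fix_a {φ : MulAut Spor.Ly} (hF : FixesQ φ) :
    ∃ g, FixesQ (MulAut.conj g * φ) ∧ (MulAut.conj g * φ : MulAut Spor.Ly) (gl 0) = gl 0 := by
  obtain ⟨s, hs⟩ := defect_mem hF (normalizes_gl (k := 0) (by norm_num))
  refine ⟨zp (cc 4) (3 * s), fun q hq => ?_, ?_⟩
  · rw [MulAut.mul_apply, MulAut.conj_apply, hF q hq]
    obtain ⟨v, k, rfl⟩ := hq
    rw [← nf_zero_zp, (nf_zero_comm (3 * s) v k).eq, mul_inv_cancel_right]
  · rw [MulAut.mul_apply, MulAut.conj_apply, hs]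
    calc zp (cc 4) (3 * s) * (zp (cc 4) s * gl 0) * (zp (cc 4) (3 * s))⁻¹
        = zp (cc 4) (3 * s) * zp (cc 4) s * (gl 0 * (zp (cc 4) (3 * s))⁻¹ * (gl 0)⁻¹) * gl 0 := by group
      _ = gl 0 := by
        rw [zp_four_inv, act_center a_center, zp_four_mul, zp_four_mul]
        have : 3 * s + s + ((3 : ℕ) : ZMod 5) * -(3 * s) = 0 := by
          push_cast
          ring_nf
          rw [show (5 : ZMod 5) = 0 from rfl, mul_zero, neg_zero]
        rw [this, zp_zero, one_mul]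

/-! ### the low letters -/

theorem fixes_b {φ : MulAut Spor.Ly} (hF : FixesQ φ) (ha : φ (gl 0) = gl 0) : φ (gl 2) = gl 2 := by
  obtain ⟨s, hs⟩ := defect_mem hF (normalizes_gl (k := 2) (by norm_num))
  have hu : φ (wd [0, 0]) = wd [0, 0] := by simp [wd, ha]
  have e := congrArg φ aa_b
  rw [map_mul, map_mul, hu, hs] at e
  have h' : wd [0, 0] * zp (cc 4) s * (wd [0, 0])⁻¹ = zp (cc 4) s := by
    calc wd [0, 0] * zp (cc 4) s * (wd [0, 0])⁻¹
        = wd [0, 0] * (zp (cc 4) s * gl 2) * (gl 2)⁻¹ * (wd [0, 0])⁻¹ := by group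
      _ = zp (cc 4) s * (gl 2 * wd [0, 0]) * (gl 2)⁻¹ * (wd [0, 0])⁻¹ := by rw [e]; group
      _ = zp (cc 4) s := by rw [← aa_b]; group
  rw [act_center aa_center] at h'
  rw [← nf_zero_zp, ← nf_zero_zp] at h'
  have hs0 : s = 0 := (show ∀ s : ZMod 5, ((4 : ℕ) : ZMod 5) * s = s → s = 0 by decide) s (nf_injective h').2
  rw [hs, hs0, zp_zero, one_mul]

theorem fixes_c {φ : MulAut Spor.Ly} (hF : FixesQ φ) : φ (gl 4) = gl 4 := by
  have h := hF _ (cc_mem (i := 0) (by norm_num))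
  simpa [cc, cw, LyMult.kapW, wd] using h

theorem fixes_low {φ : MulAut Spor.Ly} (hF : FixesQ φ) (ha : φ (gl 0) = gl 0) :
    ∀ w : List ℕ, w.all (fun k => Nat.blt k 6) = true → φ (wd w) = wd w := by
  have hb := fixes_b hF ha
  have hc := fixes_c hF
  intro w hw
  rw [wd, map_list_prod, List.map_map]
  refine congrArg List.prod (List.map_congr_left fun k hk => ?_)
  have := Nat.blt_eq.mp (List.all_eq_true.1 hw k hk)
  show φ (gl k) = gl k
  interval_cases k
  · exact ha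
  · rw [show gl 1 = (gl 0)⁻¹ from gl_flp 0, map_inv, ha]
  · exact hb
  · rw [show gl 3 = (gl 2)⁻¹ from gl_flp 2, map_inv, hb]
  · exact hc
  · rw [show gl 5 = (gl 4)⁻¹ from gl_flp 4, map_inv, hc]

theorem fixes_Z {φ : MulAut Spor.Ly} (hF : FixesQ φ) (ha : φ (gl 0) = gl 0) : φ Z = Z := by
  obtain ⟨s, hs⟩ := defect_mem hF (normalizes_of_lin lin_Z)
  have hz : Z * Z = wd [0, 0] := Z_sq
  have e := congrArg φ hz
  rw [map_mul, hs, fixes_low hF ha [0, 0] (by decide), ← hz] at e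
  have h' : zp (cc 4) s * (Z * zp (cc 4) s * Z⁻¹) = 1 := by
    calc zp (cc 4) s * (Z * zp (cc 4) s * Z⁻¹) = zp (cc 4) s * Z * (zp (cc 4) s * Z) * (Z * Z)⁻¹ := by group
      _ = 1 := by rw [e, mul_inv_cancel]
  rw [act_center Z_center, zp_four_mul] at h'
  have hs0 : s = 0 := (show ∀ s : ZMod 5, s + ((3 : ℕ) : ZMod 5) * s = 0 → s = 0 by decide) s (zp_four_inj h')
  rw [hs, hs0, zp_zero, one_mul]

/-! ### the involution -/

/-- The involution. -/
def eW : List ℕ := [3, 3, 1, 5, 0, 4, 1, 4, 0, 6, 4, 2, 0, 3, 6, 4, 6]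

/-- The elements it conjugates into the low letters, with their images. -/
noncomputable def eMoves : List (List ℕ × List ℕ) := [
  (cw 0, PairEnum.winv [4, 3, 3, 5, 2, 3]),
  (cw 2, PairEnum.winv [0, 2, 4, 3, 4, 1, 5, 0, 1, 3, 3]),
  (cw 3, PairEnum.winv [2, 5, 3, 3, 4, 2, 3, 3]),
  (cw 4, PairEnum.winv [2, 4, 3, 5, 3, 4, 2, 5]),
  ([2], PairEnum.winv [2, 4, 3, 2, 4, 3, 3, 4, 2, 5]),
  ([0, 0], PairEnum.winv [2, 4, 3, 1, 5, 0, 5, 1, 4, 0, 4, 5, 1, 2, 1, 3, 3, 1])]

theorem e_moves_ok : eMoves.all (fun p => p.1.all (fun k => Nat.blt k 6) && p.2.all (fun k => Nat.blt k 6) &&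
    LyMult.eqA (PairEnum.winv eW ++ p.1 ++ eW) p.2) = true := by decide +kernel

theorem defect_commutes {φ : MulAut Spor.Ly} (hF : FixesQ φ) (ha : φ (gl 0) = gl 0) {p : List ℕ × List ℕ}
    (hp : p ∈ eMoves) : Commute (φ (wd eW) * (wd eW)⁻¹) (wd p.1) := by
  have h := List.all_eq_true.1 e_moves_ok p hp
  simp only [Bool.and_eq_true] at h
  have e := wd_eq h.2
  rw [wd_append, wd_append, wd_winv] at e
  have e' := congrArg φ e
  rw [map_mul, map_mul, map_inv, fixes_low hF ha _ h.1.1, fixes_low hF ha _ h.1.2, ← e] at e'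
  show φ (wd eW) * (wd eW)⁻¹ * wd p.1 = wd p.1 * (φ (wd eW) * (wd eW)⁻¹)
  calc φ (wd eW) * (wd eW)⁻¹ * wd p.1 = φ (wd eW) * ((wd eW)⁻¹ * wd p.1 * wd eW) * (wd eW)⁻¹ := by group
    _ = _ := by rw [← e']; group

/-- The second subgroup of order 3125. -/
noncomputable def RR : Subgroup Spor.Ly := Subgroup.closure {cc 0, cc 2, cc 3, cc 4, gl 2}

theorem RR_le : RR ≤ SS := by
  rw [RR, Subgroup.closure_le]
  rintro _ (rfl | rfl | rfl | rfl | rfl)
  · exact QQ_le_SS (cc_mem (by norm_num))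
  · exact QQ_le_SS (cc_mem (by norm_num))
  · exact QQ_le_SS (cc_mem (by norm_num))
  · exact QQ_le_SS (cc_mem (by norm_num))
  · exact b_mem_SS

theorem dvd_card_RR : 25 ∣ Nat.card RR := by
  have hd : Nat.card RR ∣ 15625 := card_SS ▸ Subgroup.card_dvd_of_le RR_le
  obtain ⟨m, -, hm⟩ := (Nat.dvd_prime_pow (p := 5) (by norm_num) (m := 6)).1 (by norm_num; exact hd)
  have : Finite RR := Nat.finite_of_card_ne_zero (by rw [hm]; positivity)
  let f : ZMod 5 × ZMod 5 → RR := fun p => ⟨zp (cc 0) p.1 * zp (cc 4) p.2,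
    mul_mem (pow_mem (Subgroup.subset_closure (Set.mem_insert _ _)) _)
      (pow_mem (Subgroup.subset_closure (by simp)) _)⟩
  have hf : Function.Injective f := by
    rintro ⟨a, b⟩ ⟨a', b'⟩ h
    have h' : zp (cc 0) a * zp (cc 4) b = zp (cc 0) a' * zp (cc 4) b' := congrArg Subtype.val h
    have hn : ∀ a b : ZMod 5, zp (cc 0) a * zp (cc 4) b = nf (a, 0, 0, 0) b := fun a b => by simp [nf, zp_zero]
    rw [hn, hn] at h'
    obtain ⟨h1, h2⟩ := nf_injective h'
    exact Prod.ext (congrArg (fun v : Vec => v.1) h1) h2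
  have h25 := Nat.card_le_card_of_injective f hf
  rw [Nat.card_prod, Nat.card_zmod, hm] at h25
  rcases Nat.lt_or_ge m 2 with h | h
  · exfalso
    have := Nat.pow_le_pow_right (show 0 < 5 by norm_num) (Nat.le_of_lt_succ h)
    omega
  · rw [hm]
    exact dvd_trans (show 25 ∣ 5 ^ 2 by norm_num) (pow_dvd_pow 5 h)

theorem RR_vals : bil (unitVec 2) (unitVec 0) - bil (unitVec 0) (unitVec 2) = (2 : ZMod 5) ∧
    app MB (unitVec 0) - unitVec 0 ≠ 0 := by decide +kernel

theorem fix_RR {q : Pt} (hq : ∀ r ∈ RR, r • q = q) : q = base := by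
  rcases fixed_point RR_le dvd_card_RR hq with h | ⟨g, -, -, hconj, -⟩
  · exact h
  exfalso
  have hm0 : cc 0 ∈ RR := Subgroup.subset_closure (Set.mem_insert _ _)
  have hm2 : cc 2 ∈ RR := Subgroup.subset_closure (by simp)
  have hmb : gl 2 ∈ RR := Subgroup.subset_closure (by simp)
  have hcomm : ∀ x ∈ RR, ∀ y ∈ RR, ∃ k, x * y * x⁻¹ * y⁻¹ = g * nf 0 k * g⁻¹ := by
    intro x hx y hy
    obtain ⟨v, k, ev⟩ := hconj x hx
    obtain ⟨w, l, ew⟩ := hconj y hy
    refine ⟨bil v w - bil w v, ?_⟩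
    rw [← comm_nf v w k l, ← ev, ← ew]
    group
  obtain ⟨k, hk⟩ := hcomm _ hm2 _ hm0
  rw [cc_eq_nf (by norm_num : 2 < 4), cc_eq_nf (by norm_num : 0 < 4), comm_nf, RR_vals.1] at hk
  obtain ⟨l, hl⟩ := hcomm _ hmb _ hm0
  obtain ⟨m, hm⟩ := lin_b (unitVec 0) 0
  rw [cj_apply] at hm
  rw [cc_eq_nf (by norm_num : 0 < 4), hm, nf_inv, nf_mul, ← sub_eq_add_neg] at hl
  have hk0 : k ≠ 0 := by
    rintro rfl
    rw [nf_zero, mul_one, mul_inv_cancel, ← nf_zero] at hk
    exact mb_vals.2.2.2 (nf_injective hk).2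
  obtain ⟨n, hn⟩ : ∃ n : ℕ, l = k * n := ⟨(k⁻¹ * l).val, by
    rw [ZMod.natCast_zmod_val, ← mul_assoc, mul_inv_cancel₀ hk0, one_mul]⟩
  rw [hn, nf_zero_zp (k * _), ← zp_pow, ← conj_pow, ← nf_zero_zp, ← hk, nf_zero_zp (2 : ZMod 5), zp_pow,
    ← nf_zero_zp] at hl
  exact RR_vals.2 (nf_injective hl).1

theorem row_aa : (([0, 0] : List ℕ).map adMat).prod 2 = (Pi.single 2 4 : Fin 14 → ZMod 5) := by decide +kernel

theorem gl_fixed_row (j : Fin 480) :
    (numV (decC (glTwo.getD j.val 0)).1 == numV (unitVec 0) && numV (decC (glTwo.getD j.val 0)).2.2.1 == numV (unitVec 2) &&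
      numV (decC (glTwo.getD j.val 0)).2.2.2 == numV (unitVec 3)) = true →
    glTwo.getD j.val 0 = encC idC := by
  have h : (glTwo.all fun c => !(numV (decC c).1 == numV (unitVec 0) && numV (decC c).2.2.1 == numV (unitVec 2) &&
      numV (decC c).2.2.2 == numV (unitVec 3)) || c == encC idC) = true := by decide +kernel
  intro hj
  have hl : j.val < glTwo.length := by rw [show glTwo.length = 480 by decide +kernel]; exact j.isLt
  have h' := List.all_eq_true.1 h _ (List.getElem_mem hl)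
  rw [List.getD_eq_getElem _ _ hl] at hj ⊢
  rw [hj] at h'
  simpa using h'

theorem fix_cols {M : Cols} (hin : inGL M = true) (h0 : M.1 = unitVec 0) (h2 : M.2.2.1 = unitVec 2)
    (h3 : M.2.2.2 = unitVec 3) : M = idC := by
  simp only [inGL, List.any_eq_true, Nat.beq_eq] at hin
  obtain ⟨c, hc, rfl⟩ := hin
  obtain ⟨j, hj, e⟩ := List.getElem_of_mem hc
  have hj' : j < 480 := by rwa [show glTwo.length = 480 by decide +kernel] at hj
  have := gl_fixed_row ⟨j, hj'⟩ (by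
    simp only [List.getD_eq_getElem _ _ hj, e, decC_encC, h0, h2, h3]
    simp)
  simp only [List.getD_eq_getElem _ _ hj, e] at this
  exact encC_inj this

theorem fixes_e {φ : MulAut Spor.Ly} (hF : FixesQ φ) (ha : φ (gl 0) = gl 0) : φ (wd eW) = wd eW := by
  set y := φ (wd eW) * (wd eW)⁻¹ with hy
  have hc : ∀ p ∈ eMoves, Commute y (wd p.1) := fun p hp => defect_commutes hF ha hp
  have c0 : Commute y (cc 0) := hc (cw 0, PairEnum.winv [4, 3, 3, 5, 2, 3]) (by simp [eMoves])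
  have c2 : Commute y (cc 2) := hc (cw 2, PairEnum.winv [0, 2, 4, 3, 4, 1, 5, 0, 1, 3, 3]) (by simp [eMoves])
  have c3 : Commute y (cc 3) := hc (cw 3, PairEnum.winv [2, 5, 3, 3, 4, 2, 3, 3]) (by simp [eMoves])
  have c4 : Commute y (cc 4) := hc (cw 4, PairEnum.winv [2, 4, 3, 5, 3, 4, 2, 5]) (by simp [eMoves])
  have cb : Commute y (gl 2) := by
    simpa [wd] using hc ([2], PairEnum.winv [2, 4, 3, 2, 4, 3, 3, 4, 2, 5]) (by simp [eMoves])
  have cu : Commute y (wd [0, 0]) :=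
    hc ([0, 0], PairEnum.winv [2, 4, 3, 1, 5, 0, 5, 1, 4, 0, 4, 5, 1, 2, 1, 3, 3, 1]) (by simp [eMoves])
  have hR : RR ≤ Subgroup.centralizer {y} := by
    rw [RR, Subgroup.closure_le]
    rintro _ (rfl | rfl | rfl | rfl | rfl) <;>
      (rw [SetLike.mem_coe, Subgroup.mem_centralizer_singleton_iff])
    exacts [c0.eq.symm, c2.eq.symm, c3.eq.symm, c4.eq.symm, cb.eq.symm]
  have hN : y ∈ N0 := smul_base_iff.1 (fix_RR fun r hr => by
    have := Subgroup.mem_centralizer_singleton_iff.1 (hR hr)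
    rw [← mul_smul, this, mul_smul, smul_base_iff.2 (SS_le_N0 (RR_le hr))])
  obtain ⟨x, hx⟩ := hN
  have hfix : ∀ (w : List ℕ) (c : ℕ), w.all (fun k => Nat.blt k 8) = true → Commute y (wd w) →
      ((w.map adMat).prod 2 = (Pi.single 2 (c : ZMod 5) : Fin 14 → ZMod 5)) →
      Matrix.vecMul (Matrix.vecMul eTwo (adM x)) (w.map adMat).prod = (c : ZMod 5) • Matrix.vecMul eTwo (adM x) := by
    intro w c hw hcw hrow
    have hx' : x * el4 w = el4 w * x := toLy_injective (by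
      rw [map_mul, map_mul, hx, toLy_el4 hw]
      exact hcw.eq)
    rw [← adM_word (w := w) (fun k hk => Nat.blt_eq.mp (List.all_eq_true.1 hw k hk)), ← el4, Matrix.vecMul_vecMul,
      ← adM_mul, hx', adM_mul, ← Matrix.vecMul_vecMul, vecMul_eTwo (adM (el4 w)),
      show adM (el4 w) 2 = (w.map adMat).prod 2 by
        rw [el4, adM_word (fun k hk => Nat.blt_eq.mp (List.all_eq_true.1 hw k hk))],
      hrow, ← Matrix.smul_vecMul]
    congr 1
    funext j
    by_cases hj : j = 2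
    · subst hj; simp [eTwo]
    · simp [eTwo, hj]
  have hrows := List.all_eq_true.1 gens_fix_row
  have hline := line_of_fix fixR_ok (v := Matrix.vecMul eTwo (adM x)) (by
    simp only [List.mem_cons, List.not_mem_nil, or_false]
    rintro p (rfl | rfl | rfl | rfl | rfl)
    · exact hfix _ 1 (by decide +kernel) c0 (by rw [Nat.cast_one]; exact of_decide_eq_true (hrows (cw 0) (by simp)))
    · exact hfix _ 1 (by decide +kernel) c2 (by rw [Nat.cast_one]; exact of_decide_eq_true (hrows (cw 2) (by simp)))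
    · exact hfix _ 1 (by decide +kernel) c3 (by rw [Nat.cast_one]; exact of_decide_eq_true (hrows (cw 3) (by simp)))
    · exact hfix _ 1 (by decide +kernel) (by simpa [wd] using cb)
        (by rw [Nat.cast_one]; exact of_decide_eq_true (hrows [2] (by simp)))
    · exact hfix _ 4 (by decide +kernel) cu row_aa)
  have hP : y ∈ PQ := by
    rw [← hx, mem_P1_of_toLy, ← lineStab_eq]
    exact mem_lineStab_of hline
  obtain ⟨M, hM, hin, hid⟩ := pq_lin hP
  have hcol : ∀ i < 4, Commute y (cc i) → app M (unitVec i) = unitVec i := fun i hi hc' => by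
    obtain ⟨l, e⟩ := hM (unitVec i) 0
    rw [cj_apply, ← cc_eq_nf hi, hc'.eq, mul_inv_cancel_right, cc_eq_nf hi] at e
    exact (nf_injective e).1.symm
  have hM0 : M.1 = unitVec 0 := by
    have := hcol 0 (by norm_num) c0
    rwa [show app M (unitVec 0) = M.1 from congrArg (fun N : Cols => N.1) (comp_id M)] at this
  have hM2 : M.2.2.1 = unitVec 2 := by
    have := hcol 2 (by norm_num) c2
    rwa [show app M (unitVec 2) = M.2.2.1 from congrArg (fun N : Cols => N.2.2.1) (comp_id M)] at this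
  have hM3 : M.2.2.2 = unitVec 3 := by
    have := hcol 3 (by norm_num) c3
    rwa [show app M (unitVec 3) = M.2.2.2 from congrArg (fun N : Cols => N.2.2.2) (comp_id M)] at this
  obtain ⟨v, k, hvk⟩ := hid (fix_cols hin hM0 hM2 hM3)
  have hlu : Lin (cj (wd [0, 0])) (comp MA MA) := by
    rw [show wd [0, 0] = gl 0 * gl 0 by simp [wd], cj_mul]
    exact lin_a.comp lin_a
  obtain ⟨l, el⟩ := hlu v k
  rw [cj_apply, ← hvk, ← cu.eq, mul_inv_cancel_right, hvk] at el
  have hv : v = 0 := by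
    have hchk : ((List.range 625).all fun t => !(Nat.beq (numV (app (comp MA MA) (vecOf t))) (numV (vecOf t))) ||
        Nat.beq t 0) = true := by decide +kernel
    have h := List.all_eq_true.1 hchk (numV v) (List.mem_range.2 (numV_lt v))
    rw [vecOf_numV, ← (nf_injective el).1] at h
    simp at h
    rw [← vecOf_numV v, h]
    decide +kernel
  subst hv
  have hz : wd [0, 0] * zp (cc 4) k * (wd [0, 0])⁻¹ = zp (cc 4) k := by
    rw [← nf_zero_zp, ← hvk, ← cu.eq, mul_inv_cancel_right]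
  rw [act_center aa_center, ← nf_zero_zp, ← nf_zero_zp] at hz
  have hk : k = 0 := (show ∀ s : ZMod 5, ((4 : ℕ) : ZMod 5) * s = s → s = 0 by decide) k (nf_injective hz).2
  rw [hk, nf_zero, hy, mul_inv_eq_one] at hvk
  exact hvk

theorem d_rel : relWords.contains ([6] ++ (PairEnum.winv eW ++ ([3, 1, 4, 0, 1] ++ (PairEnum.winv eW ++ ([1] ++
    (PairEnum.winv eW ++ [1, 5, 1, 5, 0, 4, 1, 4, 0, 2, 4, 3, 4, 2, 0, 3, 3, 1])))))) = true := by decide +kernel

theorem fixes_d {φ : MulAut Spor.Ly} (hF : FixesQ φ) (ha : φ (gl 0) = gl 0) : φ (gl 6) = gl 6 := by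
  have he := fixes_e hF ha
  have h := gl_rel (List.contains_iff_mem.1 d_rel)
  change wd _ = 1 at h
  simp only [wd_append, wd_winv] at h
  have h6 : gl 6 = ((wd eW)⁻¹ * (wd [3, 1, 4, 0, 1] * ((wd eW)⁻¹ * (wd [1] *
      ((wd eW)⁻¹ * wd [1, 5, 1, 5, 0, 4, 1, 4, 0, 2, 4, 3, 4, 2, 0, 3, 3, 1])))))⁻¹ :=
    eq_inv_of_mul_eq_one_left (by simpa [wd] using h)
  rw [h6]
  simp only [map_inv, map_mul, he, fixes_low hF ha [3, 1, 4, 0, 1] (by decide), fixes_low hF ha [1] (by decide),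
    fixes_low hF ha [1, 5, 1, 5, 0, 4, 1, 4, 0, 2, 4, 3, 4, 2, 0, 3, 3, 1] (by decide)]

theorem eq_one_of_fixes {φ : MulAut Spor.Ly} (hF : FixesQ φ) (ha : φ (gl 0) = gl 0) : φ = 1 := by
  have hle : Subgroup.closure {g | ∃ k ∈ ([0, 2, 4, 6, 8] : List ℕ), g = gl k} ≤
      MonoidHom.eqLocus (hom φ) (MonoidHom.id _) := by
    rw [Subgroup.closure_le]
    rintro _ ⟨k, hk, rfl⟩
    show φ (gl k) = gl k
    simp only [List.mem_cons, List.not_mem_nil, or_false] at hk
    rcases hk with rfl | rfl | rfl | rfl | rfl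
    · exact ha
    · exact fixes_b hF ha
    · exact fixes_c hF
    · exact fixes_d hF ha
    · exact fixes_Z hF ha
  rw [gl_closure] at hle
  exact MulEquiv.ext fun x => hle (Subgroup.mem_top x)

theorem aut_inner (φ : MulAut Spor.Ly) : φ ∈ Cfsg.Inn Spor.Ly := by
  obtain ⟨g, hg⟩ := exists_fixesQ φ
  obtain ⟨h, hh1, hh2⟩ := exists_fix_a hg
  refine inner_of g (inner_of h ?_)
  rw [eq_one_of_fixes hh1 hh2]
  exact one_mem _

theorem card_out : Nat.card (Cfsg.Out Spor.Ly) = 1 := by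
  have : Subsingleton (Cfsg.Out Spor.Ly) := ⟨fun a b => by
    obtain ⟨φ, rfl⟩ := QuotientGroup.mk_surjective a
    obtain ⟨χ, rfl⟩ := QuotientGroup.mk_surjective b
    exact QuotientGroup.eq.mpr (aut_inner _)⟩
  exact Nat.card_of_subsingleton (QuotientGroup.mk 1)

end CfsgLib.Sporadic.LyOut
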