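import Cfsg.Agent.Lib.Sporadic.LyOut.Points

/-!
# The image of the normaliser of the subgroup of order 3125 on its Frattini quotient (owner: helper21)

It consists of six translates of the 480 listed matrices.
-/

set_option autoImplicit false
set_option maxRecDepth 20000

namespace CfsgLib.Sporadic.LyOut

open Cfsg
open CfsgLib.Sporadic.LyGroup (gl gl_flp)
open CfsgLib.Sporadic.LyCoset (N0 W W_base ev Z Z_sq conj_gen mImg mGen pt)

/-- Normalising the subgroup of order 3125. -/
def Normalizes (n : Spor.Ly) : Prop := ∀ q ∈ QQ, n * q * n⁻¹ ∈ QQ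

theorem Normalizes.surj {n : Spor.Ly} (h : Normalizes n) {q : Spor.Ly} (hq : q ∈ QQ) :
    ∃ r ∈ QQ, n * r * n⁻¹ = q := by
  let f : QQ → QQ := fun r => ⟨n * r * n⁻¹, h r r.2⟩
  have hf : Function.Injective f := fun a b e => Subtype.ext
    (mul_left_cancel (mul_right_cancel (congrArg Subtype.val e)))
  obtain ⟨r, hr⟩ := (Finite.injective_iff_surjective.1 hf) ⟨q, hq⟩
  exact ⟨r, r.2, congrArg Subtype.val hr⟩

theorem Normalizes.inv {n : Spor.Ly} (h : Normalizes n) : Normalizes n⁻¹ := by
  intro q hq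
  obtain ⟨r, hr, rfl⟩ := h.surj hq
  simpa [mul_assoc] using hr

theorem Normalizes.mul {m n : Spor.Ly} (hm : Normalizes m) (hn : Normalizes n) : Normalizes (m * n) := fun q hq => by
  have := hm _ (hn q hq)
  simpa [mul_assoc] using this

theorem normalizes_of_lin {n : Spor.Ly} {M : Cols} (h : Lin (cj n) M) : Normalizes n := fun _ hq => h.mem hq

theorem normalizes_PQ {n : Spor.Ly} (h : n ∈ PQ) : Normalizes n := fun _ hq => PQ_normalizes h hq

/-- The numbers of the images of the generators under `Z`. -/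
def tsZ : List ℕ := [1704, 871, 510, 292, 1875]

theorem cj_Z_gen : ∀ i < 5, cj Z (cc i) = nf (vecOf (tsZ.getD i 0)) ((tsZ.getD i 0 / 625 : ℕ) : ZMod 5) := by
  have hk : ((List.range 5).all fun i => (mGen.getD i []) == cw i &&
      LyMult.eqA ([0, 0] ++ mImg.getD i [] ++ [1, 1]) (nfW (tsZ.getD i 0))) = true := by decide +kernel
  intro i hi
  have h' := List.all_eq_true.1 hk i (List.mem_range.2 hi)
  simp only [Bool.and_eq_true, beq_iff_eq] at h'
  have e1 := wd_eq h'.2
  rw [wd_append, wd_append, wd_nfW] at e1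
  rw [← e1, cj_apply]
  have hg := conj_gen (g := i) (by omega)
  rw [h'.1] at hg
  change cc i * Z = Z * wd (mImg.getD i []) at hg
  have hz : Z * Z = wd [0, 0] := Z_sq
  have h2 : wd [1, 1] = (Z * Z)⁻¹ := by rw [hz, ← wd_winv]; rfl
  rw [← hz, h2]
  calc Z * cc i * Z⁻¹ = Z * (cc i * Z) * (Z⁻¹ * Z⁻¹) := by group
    _ = Z * (Z * wd (mImg.getD i [])) * (Z⁻¹ * Z⁻¹) := by rw [hg]
    _ = _ := by group

theorem lin_Z : Lin (cj Z) MZ := by
  have e := cj_Z_gen
  obtain ⟨h0, h1, h2, h3, h4⟩ : vecOf (tsZ.getD 0 0) = MZ.1 ∧ vecOf (tsZ.getD 1 0) = MZ.2.1 ∧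
      vecOf (tsZ.getD 2 0) = MZ.2.2.1 ∧ vecOf (tsZ.getD 3 0) = MZ.2.2.2 ∧ vecOf (tsZ.getD 4 0) = 0 := by
    decide +kernel
  exact lin_of_gens ⟨_, h0 ▸ e 0 (by norm_num)⟩ ⟨_, h1 ▸ e 1 (by norm_num)⟩ ⟨_, h2 ▸ e 2 (by norm_num)⟩
    ⟨_, h3 ▸ e 3 (by norm_num)⟩ ⟨_, h4 ▸ e 4 (by norm_num)⟩

/-- One of the six representatives. -/
noncomputable def repEl : Option (Fin 5) → Spor.Ly
  | none => 1
  | some i => gl 2 ^ i.val * Z

/-- Its matrix. -/
def repMat : Option (Fin 5) → Cols
  | none => idC
  | some i => comp (MBp i.val) MZ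

/-- The place of a representative in the list. -/
def repIdx : Option (Fin 5) → ℕ
  | none => 0
  | some i => i.val + 1

theorem lin_rep : ∀ o, Lin (cj (repEl o)) (repMat o)
  | none => by rw [repEl, cj_one]; exact Lin_id
  | some i => by rw [repEl, cj_mul]; exact (lin_b_pow _).comp lin_Z

theorem rep_inv : ∀ o : Option (Fin 5),
    encC (comp (mL (sixInv.getD (repIdx o) [])) (repMat o)) = encC idC ∧
    encC (comp (repMat o) (mL (sixInv.getD (repIdx o) []))) = encC idC := by decide +kernel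

/-- In the image of the normaliser. -/
noncomputable def inG (M : Cols) : Bool := sixInv.any fun r => inGL (comp (mL r) M)

theorem repEl_smul : ∀ o, repEl o • base = sixPt o
  | none => one_smul _ _
  | some i => by
    show (gl 2 ^ i.val * Z) • base = gl 2 ^ i.val • pt 1
    rw [mul_smul]
    congr 1
    rw [base, pt, MulAction.Quotient.smul_coe, smul_eq_mul, mul_one, QuotientGroup.eq, W_base.2, LyCoset.ev_cons,
      LyCoset.ev_nil, mul_one, show gl 8 = Z from rfl, ← mul_inv_rev, Z_sq]
    exact inv_mem (LyCoset.ev_mem (by decide +kernel))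

theorem norm_image {n : Spor.Ly} (hn : Normalizes n) : ∃ M, Lin (cj n) M ∧ inG M = true := by
  obtain ⟨o, ho⟩ := fix_QQ (q := n • base) fun r hr => by
    have h := hn.inv r hr
    rw [inv_inv] at h
    calc r • n • base = n • ((n⁻¹ * r * n) • base) := by rw [← mul_smul, ← mul_smul]; congr 1; group
      _ = n • base := by rw [smul_base_iff.2 (QQ_le_N0 h)]
  rw [← repEl_smul] at ho
  have hN : (repEl o)⁻¹ * n ∈ N0 := smul_base_iff.1 (by rw [mul_smul, ← ho, inv_smul_smul])
  obtain ⟨M, hM, hin, -⟩ := pq_lin (mem_PQ_of_conj hN ((normalizes_of_lin (lin_rep o)).inv.mul hn))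
  refine ⟨comp (repMat o) M, ?_, ?_⟩
  · have := (lin_rep o).comp hM
    rwa [← cj_mul, mul_inv_cancel_left] at this
  · simp only [inG, List.any_eq_true]
    refine ⟨sixInv.getD (repIdx o) [], ?_, ?_⟩
    · have hl : repIdx o < sixInv.length := by
        rw [show sixInv.length = 6 from rfl]
        cases o with
        | none => simp [repIdx]
        | some i => simp only [repIdx]; omega
      rw [List.getD_eq_getElem _ _ hl]
      exact List.getElem_mem hl
    · rw [← comp_assoc, encC_inj (rep_inv o).1, id_comp]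
      exact hin

theorem inG_realised {M : Cols} (h : inG M = true) : ∃ n, Lin (cj n) M := by
  simp only [inG, List.any_eq_true] at h
  obtain ⟨r, hr, hin⟩ := h
  obtain ⟨o, rfl⟩ : ∃ o, r = sixInv.getD (repIdx o) [] := by
    obtain ⟨j, hj, rfl⟩ := List.getElem_of_mem hr
    rw [show sixInv.length = 6 from rfl] at hj
    rcases Nat.eq_zero_or_pos j with rfl | hp
    · exact ⟨none, (List.getD_eq_getElem sixInv [] _).symm⟩
    · refine ⟨some ⟨j - 1, by omega⟩, ?_⟩
      show _ = sixInv.getD (j - 1 + 1) []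
      rw [List.getD_eq_getElem _ _ (by rw [show sixInv.length = 6 from rfl]; omega)]
      congr 1
      omega
  set r := mL (sixInv.getD (repIdx o) []) with hrd
  simp only [inGL, List.any_eq_true, Nat.beq_eq] at hin
  obtain ⟨c, hc, he⟩ := hin
  obtain ⟨k, hk, rfl⟩ := List.getElem_of_mem hc
  obtain ⟨g, -, hl⟩ := gl_reached k (by rwa [show glTwo.length = 480 by decide +kernel] at hk)
  have hdec : decC (glTwo.getD k 0) = comp r M := by
    apply encC_inj
    have h' := gl_check
    simp only [glOK, Bool.and_eq_true] at h'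
    have h'' := List.all_eq_true.1 h'.1.2 _ (List.getElem_mem hk)
    simp only [Bool.and_eq_true, Nat.beq_eq] at h''
    rw [List.getD_eq_getElem _ _ hk, h''.1.1, he]
  refine ⟨repEl o * g, ?_⟩
  have := (lin_rep o).comp (hdec ▸ hl)
  rw [← cj_mul, ← comp_assoc, hrd, encC_inj (rep_inv o).2, id_comp] at this
  exact this

end CfsgLib.Sporadic.LyOut
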