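import Cfsg.Agent.Lib.Sporadic.LyOut.Para

/-!
# The stabiliser of the line is the maximal parabolic subgroup (owner: helper21)

The translates of the last coordinate line by the subgroup of order 3125 are distinct, so the stabiliser of the
line has index at least 3126.  It follows that an element of G2(5) normalising that subgroup is in the parabolic.
-/

set_option autoImplicit false
set_option maxRecDepth 20000

namespace CfsgLib.Sporadic.LyOut

open Cfsg
open CfsgLib.Sporadic.LyGTwo (P4 L toLy toLy_injective adMat evalAd idAd adm card_P4_eq)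
open CfsgLib.Sporadic.LyRep (Mat enc packF dmul maskN)

/-- Five exponents. -/
abbrev Digits : Type := ℕ × ℕ × ℕ × ℕ × ℕ

/-- The word with given exponents. -/
def digW (p : Digits) : List ℕ :=
  (List.replicate p.1 (cw 0)).flatten ++ ((List.replicate p.2.1 (cw 1)).flatten ++
    ((List.replicate p.2.2.1 (cw 2)).flatten ++ ((List.replicate p.2.2.2.1 (cw 3)).flatten ++
      (List.replicate p.2.2.2.2 (cw 4)).flatten)))

/-- The digits of a number. -/
def digits (t : ℕ) : Digits := (t % 5, t / 5 % 5, t / 25 % 5, t / 125 % 5, t / 625 % 5)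

/-- All exponents in the order of the search. -/
def allDigits : List Digits :=
  (List.range 5).flatMap fun m => (List.range 5).flatMap fun l => (List.range 5).flatMap fun k =>
    (List.range 5).flatMap fun j => (List.range 5).map fun i => (i, j, k, l, m)

theorem allDigits_tail : allDigits.tail = (List.range 3124).map fun s => digits (s + 1) := by decide +kernel

theorem evalAd_foldr : ∀ w : List ℕ, evalAd w = w.foldr (fun x R => dmul (maskN 14) (adm x) R) idAd
  | [] => rfl
  | x :: w => by rw [List.foldr_cons, ← evalAd_foldr w]; rfl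

theorem orbit_sound : ∀ s < 3124, ∀ a < 4,
    (evalAd (nfW (s + 1))).getD 13 0 ≠ (a + 1) * lastVec := by
  have hlist : ((levels (cw 4) idAd).flatMap fun X4 => (levels (cw 3) X4).flatMap fun X3 =>
      (levels (cw 2) X3).flatMap fun X2 => (levels (cw 1) X2).flatMap fun X1 => levels (cw 0) X1) =
      allDigits.map fun p => evalAd (digW p) := by
    simp only [levels, allDigits, digW, evalAd_foldr, List.foldr_append, List.flatMap_map, List.map_flatMap,
      List.map_map, Function.comp_def]
  intro s hs a ha he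
  have h := orbit_check
  rw [orbitOK, hlist, ← List.map_tail, allDigits_tail, List.map_map, List.all_map] at h
  have h' := List.all_eq_true.1 (List.all_eq_true.1 h s (List.mem_range.2 hs)) a (List.mem_range.2 ha)
  rw [show evalAd (nfW (s + 1)) = evalAd (digW (digits (s + 1))) from rfl] at he
  simp only [Function.comp_apply, Bool.not_eq_true', Nat.mul_eq] at h'
  exact Nat.ne_of_beq_eq_false h' he

theorem pack_last : ∀ a : Fin 4,
    packF 14 (fun j => ((Pi.single 13 ((a.val + 1 : ℕ) : ZMod 5) : Fin 14 → ZMod 5) j).val) = (a.val + 1) * lastVec := by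
  decide +kernel

theorem low_nfW (t : ℕ) : (nfW t).all (fun k => Nat.blt k 8) = true := by
  have h : ∀ i < 5, (cw i).all (fun k => Nat.blt k 8) = true := by decide +kernel
  simp only [nfW, List.all_append, Bool.and_eq_true]
  refine ⟨?_, ?_, ?_, ?_, ?_⟩ <;>
    (simp only [List.all_eq_true, List.mem_flatten, List.mem_replicate]; rintro x ⟨l, ⟨-, rfl⟩, hx⟩
     first
      | exact List.all_eq_true.1 (h 0 (by norm_num)) x hx
      | exact List.all_eq_true.1 (h 1 (by norm_num)) x hx
      | exact List.all_eq_true.1 (h 2 (by norm_num)) x hx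
      | exact List.all_eq_true.1 (h 3 (by norm_num)) x hx
      | exact List.all_eq_true.1 (h 4 (by norm_num)) x hx)

/-- The element moving the line to the last one. -/
noncomputable def dEl : P4 := el4 [6]

theorem eTwo_d : Matrix.vecMul eTwo (adM dEl) = (Pi.single 13 4 : Fin 14 → ZMod 5) := by
  rw [dEl, el4, adM_word (by simp), d_moves]

theorem last_fixed {r : P4} (h : dEl * r * dEl⁻¹ ∈ lineStab) :
    ∃ c : ZMod 5, c ≠ 0 ∧ adM r 13 = (Pi.single 13 c : Fin 14 → ZMod 5) := by
  obtain ⟨c, hc⟩ := h
  have h1 : Matrix.vecMul eTwo (adM (dEl * r)) = c • (Pi.single 13 4 : Fin 14 → ZMod 5) := by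
    conv_lhs => rw [show dEl * r = dEl * r * dEl⁻¹ * dEl by group]
    rw [adM_mul (dEl * r * dEl⁻¹), ← Matrix.vecMul_vecMul, hc, Matrix.smul_vecMul, eTwo_d]
  rw [adM_mul, ← Matrix.vecMul_vecMul, eTwo_d] at h1
  have h2 : ∀ j, (4 : ZMod 5) * adM r 13 j = c * (Pi.single 13 4 : Fin 14 → ZMod 5) j := fun j => by
    have := congrFun h1 j
    rw [Matrix.vecMul, single_dotProduct, Pi.smul_apply, smul_eq_mul] at this
    exact this
  have h3 : adM r 13 = (Pi.single 13 c : Fin 14 → ZMod 5) := funext fun j => by
    have := h2 j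
    by_cases hj : j = 13
    · subst hj
      rw [Pi.single_eq_same] at this ⊢
      rw [mul_comm c] at this
      exact mul_left_cancel₀ (by decide) this
    · rw [Pi.single_eq_of_ne hj, mul_zero] at this
      rw [Pi.single_eq_of_ne hj]
      exact (mul_eq_zero.1 this).resolve_left (by decide)
  refine ⟨c, ?_, h3⟩
  rintro rfl
  have h4 : adM r * adM r⁻¹ = 1 := by rw [← adM_mul, mul_inv_cancel, adM_one]
  have := congrFun (congrFun h4 13) 13
  simp [Matrix.mul_apply, h3] at this

theorem translate_distinct {t : ℕ} (ht : t < 3125) (h : dEl * el4 (nfW t) * dEl⁻¹ ∈ lineStab) : t = 0 := by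
  by_contra h0
  obtain ⟨s, rfl⟩ : ∃ s, t = s + 1 := ⟨t - 1, by omega⟩
  obtain ⟨c, hc, hrow⟩ := last_fixed h
  obtain ⟨a, rfl⟩ : ∃ a : Fin 4, c = ((a.val + 1 : ℕ) : ZMod 5) := (show ∀ c : ZMod 5, c ≠ 0 → ∃ a : Fin 4, c = ((a.val + 1 : ℕ) : ZMod 5) by decide) c hc
  have hp : (evalAd (nfW (s + 1))).getD 13 0 = packF 14 (fun j => (adM (el4 (nfW (s + 1))) 13 j).val) := by
    rw [← enc_el4 (low_nfW _), enc, List.getD_eq_getElem _ _ (by rw [List.length_ofFn]; norm_num),
      List.getElem_ofFn]
    rfl
  exact orbit_sound s (by omega) a a.isLt (by rw [hp, hrow, pack_last])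

theorem toLy_num (v : Vec) (k : ZMod 5) : toLy (el4 (nfW (numV v + 625 * k.val))) = nf v k := by
  rw [el4_pow_nfW]
  have h1 := numV_lt v
  have e1 : ((((numV v + 625 * k.val) / 625 : ℕ)) : ZMod 5) = k := by
    rw [show (numV v + 625 * k.val) / 625 = k.val by omega, ZMod.natCast_zmod_val]
  have e2 : vecOf (numV v + 625 * k.val) = v := by
    apply numV_inj
    simp only [numV, vecOf, ZMod.val_natCast]
    have := ZMod.val_lt v.1; have := ZMod.val_lt v.2.1; have := ZMod.val_lt v.2.2.1; have := ZMod.val_lt v.2.2.2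
    omega
  rw [e1, e2]

theorem QQ_le_range : QQ ≤ toLy.range := by
  rintro _ ⟨v, k, rfl⟩
  exact ⟨_, toLy_num v k⟩

theorem el4_inj {s t : ℕ} (hs : s < 3125) (ht : t < 3125) (h : toLy (el4 (nfW s)) = toLy (el4 (nfW t))) : s = t := by
  rw [el4_pow_nfW, el4_pow_nfW] at h
  obtain ⟨h1, h2⟩ := nf_injective h
  have h2' := congrArg ZMod.val h2
  have h1' := congrArg numV h1
  simp only [numV, vecOf, ZMod.val_natCast] at h1' h2'
  omega

theorem P1_le_lineStab : P1 ≤ lineStab := by
  rw [P1, Subgroup.closure_le]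
  rintro _ (rfl | rfl | rfl) <;> exact gen_mem_lineStab (by simp)

theorem mem_P1_of_toLy {x : P4} : toLy x ∈ PQ ↔ x ∈ P1 := by
  rw [← cards.2.2.2, Subgroup.mem_map]
  exact ⟨fun ⟨y, hy, e⟩ => toLy_injective e ▸ hy, fun h => ⟨x, h, rfl⟩⟩

theorem QQ_el4 (t : ℕ) : el4 (nfW t) ∈ P1 := by
  rw [← mem_P1_of_toLy, el4_pow_nfW]
  exact ⟨_, nf_mem _ _, 1, one_mem _, (mul_one _).symm⟩

theorem lineStab_eq : lineStab = P1 := by
  classical
  -- the cosets of the translates and the subgroup itself
  let f : Option (Fin 3125) → P4 ⧸ lineStab := fun o =>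
    ((o.elim 1 fun t => (dEl * el4 (nfW t))⁻¹ : P4) : P4 ⧸ lineStab)
  have hf : Function.Injective f := by
    have hd : ∀ t : Fin 3125, dEl * el4 (nfW t) ∉ lineStab := by
      intro t ht
      obtain ⟨c, hc⟩ : dEl ∈ lineStab :=
        (lineStab.mul_mem_cancel_right (P1_le_lineStab (QQ_el4 t))).1 ht
      have := congrFun hc 13
      rw [eTwo_d] at this
      simp [eTwo] at this
      exact absurd this (by decide)
    rintro (_ | s) (_ | t) h
    · rfl
    · exfalso
      simp only [f, Option.elim, QuotientGroup.eq, inv_one, one_mul, inv_mem_iff] at h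
      exact hd t h
    · exfalso
      simp only [f, Option.elim, QuotientGroup.eq, inv_inv, mul_one] at h
      exact hd s h
    · simp only [f, Option.elim, QuotientGroup.eq, inv_inv] at h
      congr 1
      have hs : toLy (el4 (nfW s)) * (toLy (el4 (nfW t)))⁻¹ ∈ QQ :=
        mul_mem (by rw [el4_pow_nfW]; exact nf_mem _ _) (inv_mem (by rw [el4_pow_nfW]; exact nf_mem _ _))
      obtain ⟨r, hr⟩ : ∃ r < 3125, toLy (el4 (nfW r)) = toLy (el4 (nfW s)) * (toLy (el4 (nfW t)))⁻¹ := by
        obtain ⟨v, k, e⟩ := hs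
        exact ⟨numV v + 625 * k.val, by have := numV_lt v; have := ZMod.val_lt k; omega, (toLy_num v k).trans e.symm⟩
      have e : el4 (nfW r) = el4 (nfW s) * (el4 (nfW t))⁻¹ :=
        toLy_injective (by rw [hr.2, map_mul, map_inv])
      have h0 := translate_distinct hr.1 (by
        rw [e, show dEl * (el4 (nfW s) * (el4 (nfW t))⁻¹) * dEl⁻¹ = dEl * el4 (nfW s) * (dEl * el4 (nfW t))⁻¹ by
          group]
        exact h)
      subst h0
      have e' := hr.2
      rw [el4_pow_nfW, show ((0 / 625 : ℕ) : ZMod 5) = 0 by simp, show vecOf 0 = 0 by decide, nf_zero, eq_comm,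
        mul_inv_eq_one] at e'
      exact Fin.ext (el4_inj s.isLt t.isLt e')
  have h1 := Nat.card_le_card_of_injective f hf
  rw [Finite.card_option, Nat.card_eq_fintype_card, Fintype.card_fin] at h1
  change 3126 ≤ lineStab.index at h1
  have h2 : Nat.card P1 = 1500000 := by
    rw [← cards.2.2.1, ← cards.2.2.2, Subgroup.card_map_of_injective toLy_injective]
  refine (Subgroup.eq_of_le_of_card_ge P1_le_lineStab ?_).symm
  obtain ⟨m, hm⟩ := Subgroup.card_dvd_of_le P1_le_lineStab
  have h3 := lineStab.index_mul_card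
  rw [card_P4_eq, hm, h2] at h3
  have h4 : lineStab.index * m = 3906 := by
    apply Nat.mul_left_cancel (show 0 < 1500000 by norm_num)
    linarith
  have h5 : m = 1 := by
    rcases Nat.lt_or_ge m 2 with h | h
    · interval_cases m
      · simp at h4
      · rfl
    · exfalso
      have := Nat.mul_le_mul h1 h
      omega
  rw [hm, h5, mul_one]

/-! ### inside G2(5): the normaliser and centraliser of the subgroup of order 3125 -/

theorem gens_fix_row : ([cw 0, cw 1, cw 2, cw 3, [2]] : List (List ℕ)).all (fun w => decide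
    ((w.map adMat).prod 2 = (Pi.single 2 1 : Fin 14 → ZMod 5))) = true := by decide +kernel

theorem mem_PQ_of_normalizes {x : P4} (h : ∀ q ∈ QQ, toLy x * q * (toLy x)⁻¹ ∈ QQ) : toLy x ∈ PQ := by
  have hQ : ∀ t, Matrix.vecMul eTwo (adM (el4 (nfW t))) = eTwo := by
    intro t
    have hmem : el4 (nfW t) ∈ ({
        carrier := {y | Matrix.vecMul eTwo (adM y) = eTwo}
        one_mem' := by simp [adM_one]
        mul_mem' := fun {a b} ha hb => by
          show Matrix.vecMul eTwo (adM (a * b)) = eTwo
          rw [adM_mul, ← Matrix.vecMul_vecMul, ha, hb]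
        inv_mem' := fun {a} ha => by
          show Matrix.vecMul eTwo (adM a⁻¹) = eTwo
          conv_lhs => rw [← ha]
          rw [Matrix.vecMul_vecMul, ← adM_mul, mul_inv_cancel, adM_one, Matrix.vecMul_one] } : Subgroup P4) := by
      have hg : ∀ i < 4, Matrix.vecMul eTwo (adM (el4 (cw i))) = eTwo := by
        intro i hi
        have hmem : cw i ∈ ([cw 0, cw 1, cw 2, cw 3, [2]] : List (List ℕ)) := by interval_cases i <;> simp
        have hl : ∀ j < 5, (cw j).all (fun k => Nat.blt k 8) = true := by decide +kernel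
        rw [el4, adM_word fun k hk => Nat.blt_eq.mp (List.all_eq_true.1 (hl i (by omega)) k hk), vecMul_eTwo]
        exact of_decide_eq_true (List.all_eq_true.1 gens_fix_row _ hmem)
      have hfour : Matrix.vecMul eTwo (adM (el4 (cw 4))) = eTwo := by
        rw [el4, adM_word (fun k hk => Nat.blt_eq.mp (List.all_eq_true.1
          (show (cw 4).all (fun k => Nat.blt k 8) = true by decide +kernel) k hk)), vecMul_eTwo]
        decide +kernel
      simp only [nfW, el4_append]
      have hp : ∀ n i, i < 5 → el4 (List.replicate n (cw i)).flatten = el4 (cw i) ^ n := by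
        intro n i _
        induction n with
        | zero => simp [el4]
        | succ n ih => rw [List.replicate_succ, List.flatten_cons, el4_append, ih, pow_succ']
      rw [hp _ 0 (by norm_num), hp _ 1 (by norm_num), hp _ 2 (by norm_num), hp _ 3 (by norm_num),
        hp _ 4 (by norm_num)]
      exact mul_mem (pow_mem (hg 0 (by norm_num)) _) (mul_mem (pow_mem (hg 1 (by norm_num)) _)
        (mul_mem (pow_mem (hg 2 (by norm_num)) _) (mul_mem (pow_mem (hg 3 (by norm_num)) _) (pow_mem hfour _))))
    exact hmem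
  have hfix : ∀ i < 4, Matrix.vecMul (Matrix.vecMul eTwo (adM x)) ((cw i).map adMat).prod =
      ((1 : ℕ) : ZMod 5) • Matrix.vecMul eTwo (adM x) := by
    intro i hi
    have hl : ∀ j < 5, (cw j).all (fun k => Nat.blt k 8) = true := by decide +kernel
    rw [Nat.cast_one, one_smul, ← adM_word (w := cw i)
      (fun k hk => Nat.blt_eq.mp (List.all_eq_true.1 (hl i (by omega)) k hk)), ← el4, Matrix.vecMul_vecMul,
      ← adM_mul]
    have hq : toLy x * toLy (el4 (cw i)) * (toLy x)⁻¹ ∈ QQ :=
      h _ (by rw [toLy_el4 (hl i (by omega))]; exact cc_mem (by omega))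
    obtain ⟨v, k, e⟩ := hq
    have e' : x * el4 (cw i) = el4 (nfW (numV v + 625 * k.val)) * x := by
      apply toLy_injective
      rw [map_mul, map_mul, toLy_num, ← e, inv_mul_cancel_right]
    rw [e', adM_mul, ← Matrix.vecMul_vecMul, hQ]
  have hline := line_of_fix fixQ_ok (v := Matrix.vecMul eTwo (adM x)) (by
    simp only [List.mem_cons, List.not_mem_nil, or_false]
    rintro p (rfl | rfl | rfl | rfl)
    · exact hfix 0 (by norm_num)
    · exact hfix 1 (by norm_num)
    · exact hfix 2 (by norm_num)
    · exact hfix 3 (by norm_num))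
  rw [mem_P1_of_toLy, ← lineStab_eq]
  exact mem_lineStab_of hline

end CfsgLib.Sporadic.LyOut
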