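import Cfsg.Agent.Lib.Sporadic.LyOut.Line
import Cfsg.Agent.Lib.Sporadic.LyGTwo.Bound
import Cfsg.Agent.Lib.Sporadic.LyCoset.Bound

/-!
# The maximal parabolic subgroup with the subgroup of order 3125 (owner: helper21)

It is the stabiliser of a line, has 1500000 elements, and acts on the Frattini quotient of the subgroup of order
3125 through 480 listed matrices, with that subgroup as kernel.
-/

set_option autoImplicit false
set_option maxRecDepth 20000

namespace CfsgLib.Sporadic.LyOut

open Cfsg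
attribute [local instance] CfsgLib.Sporadic.LyCoset.finite_Ly
open CfsgLib.Sporadic.LyGTwo (P4 L L_flp toLy toLy_injective subOf actLetter card_P4_eq)
open CfsgLib.Sporadic.LyGroup (gl gl_flp)
open CfsgLib.Sporadic.LyRep (dmul maskN)

/-- The subgroup of two letters. -/
noncomputable def AB : Subgroup Spor.Ly := Subgroup.closure {gl 0, gl 2}

/-- The parabolic subgroup in four letters. -/
noncomputable def P1 : Subgroup P4 := Subgroup.closure {L 0, L 2, L 4}

theorem subOf_eq (l : List ℕ) : subOf l = Subgroup.closure {g | ∃ x ∈ l, g = L x} := by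
  refine le_antisymm ((Subgroup.closure_le _).2 ?_) ((Subgroup.closure_le _).2 ?_)
  · rintro _ ⟨x, hx, rfl⟩
    exact inv_mem (Subgroup.subset_closure ⟨x, hx, rfl⟩)
  · rintro _ ⟨x, hx, rfl⟩
    have h : actLetter (MonoidHom.id P4) x ∈ subOf l := Subgroup.subset_closure ⟨x, hx, rfl⟩
    have h' := inv_mem h
    simpa [actLetter] using h'

theorem finite_P4 : Finite P4 := Nat.finite_of_card_ne_zero (by rw [card_P4_eq]; norm_num)

instance : Finite P4 := finite_P4

theorem card_AB_le : Finite AB ∧ Nat.card AB ≤ 480 := by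
  obtain ⟨_, h1⟩ : Finite (subOf [0, 2]) ∧ Nat.card (subOf [0, 2]) ≤ 480 := by
    simpa [show LySub.Ab.cert.n = 480 from rfl] using
      PairEnum.Cert.card_le (LyGTwo.setupOf LyGTwo.ab_rels) LySub.Ab.valid ⊥ (subOf [0, 2])
        (fun w hw => by rw [show LySub.Ab.cert.subs = [] from rfl] at hw; simp at hw) le_rfl
  have e : AB = (subOf [0, 2]).map toLy := by
    rw [subOf_eq, MonoidHom.map_closure, AB]
    congr 1
    ext g
    simp only [Set.mem_insert_iff, Set.mem_singleton_iff, Set.mem_image, Set.mem_ofPred_eq, List.mem_cons,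
      List.not_mem_nil, or_false]
    constructor
    · rintro (rfl | rfl)
      · exact ⟨L 0, ⟨0, Or.inl rfl, rfl⟩, LyMult.toLy_L (by norm_num)⟩
      · exact ⟨L 2, ⟨2, Or.inr rfl, rfl⟩, LyMult.toLy_L (by norm_num)⟩
    · rintro ⟨_, ⟨x, rfl | rfl, rfl⟩, rfl⟩
      · exact Or.inl (LyMult.toLy_L (by norm_num))
      · exact Or.inr (LyMult.toLy_L (by norm_num))
  rw [e]
  have : Finite ((subOf [0, 2]).map toLy) := Finite.of_equiv _ (Subgroup.equivMapOfInjective _ _ toLy_injective).toEquiv
  exact ⟨this, (Subgroup.card_map_of_injective toLy_injective).trans_le h1⟩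

instance : Finite AB := card_AB_le.1

theorem card_P1_ge : 1500000 ≤ Nat.card P1 := by
  have e : subOf [0, 2, 4] = P1 := by
    rw [subOf_eq, P1]
    congr 1
    ext g
    simp
  have htop : (⊤ : Subgroup P4) ≤ subOf [0, 2, 4, 6] := by
    rw [subOf_eq, ← LyGTwo.L_closure]
  have h := PairEnum.Cert.card_le (LyGTwo.setupOf LyGTwo.gt_rels) LySub.Gt.valid (subOf [0, 2, 4]) ⊤
    (fun w hw => by
      rw [show LySub.Gt.cert.subs = [[0], [2], [4]] from rfl] at hw
      simp only [List.mem_cons, List.not_mem_nil, or_false] at hw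
      rcases hw with rfl | rfl | rfl <;> exact LyGTwo.letter_mem (by decide))
    (by rw [show LySub.Gt.cert.kl = [0, 2, 4, 6] from rfl]; exact htop)
  have h2 := h.2
  rw [Nat.card_congr Subgroup.topEquiv.toEquiv, card_P4_eq, show LySub.Gt.cert.n = 3906 from rfl, e] at h2
  omega

/-! ### conjugation -/

/-- Conjugation by an element as an endomorphism. -/
noncomputable def cj (g : Spor.Ly) : Spor.Ly →* Spor.Ly := (MulAut.conj g).toMonoidHom

theorem cj_apply (g x : Spor.Ly) : cj g x = g * x * g⁻¹ := rfl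

theorem cj_mul (g h : Spor.Ly) : cj (g * h) = (cj g).comp (cj h) := by
  ext x; simp [cj_apply, mul_assoc]

theorem cj_one : cj (1 : Spor.Ly) = MonoidHom.id _ := by ext x; simp [cj_apply]

theorem Lin_id : Lin (MonoidHom.id _) idC := fun v k => ⟨k, by rw [MonoidHom.id_apply, app_id]⟩

theorem wd_flatten (w : List ℕ) : ∀ n, wd (List.replicate n w).flatten = wd w ^ n
  | 0 => by simp [wd_nil]
  | n + 1 => by rw [List.replicate_succ, List.flatten_cons, wd_append, wd_flatten w n, pow_succ']

/-- The coordinates of a number. -/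
def vecOf (t : ℕ) : Vec := ((t : ZMod 5), ((t / 5 : ℕ) : ZMod 5), ((t / 25 : ℕ) : ZMod 5), ((t / 125 : ℕ) : ZMod 5))

theorem wd_nfW (t : ℕ) : wd (nfW t) = nf (vecOf t) ((t / 625 : ℕ) : ZMod 5) := by
  simp only [nfW, wd_append, wd_flatten, nf, zp, vecOf, ZMod.val_natCast, cc, mul_assoc]

/-- The number of a vector. -/
def numV (v : Vec) : ℕ := v.1.val + 5 * v.2.1.val + 25 * v.2.2.1.val + 125 * v.2.2.2.val

/-- A check of conjugation of the five generators by a word, with the images' numbers. -/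
noncomputable def conjOK (h : List ℕ) (ts : List ℕ) : Bool :=
  (List.range 5).all fun i => LyMult.eqA (h ++ cw i ++ PairEnum.winv h) (nfW (ts.getD i 0))

theorem lin_conj {h ts : List ℕ} {M : Cols} (hc : conjOK h ts = true)
    (hM : ((List.range 5).map fun i => vecOf (ts.getD i 0)) = [M.1, M.2.1, M.2.2.1, M.2.2.2, 0]) :
    Lin (cj (wd h)) M := by
  have e : ∀ i < 5, cj (wd h) (cc i) = nf (vecOf (ts.getD i 0)) ((ts.getD i 0 / 625 : ℕ) : ZMod 5) := by
    intro i hi
    have h' := wd_eq (List.all_eq_true.1 hc i (List.mem_range.2 hi))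
    rw [wd_append, wd_append, wd_winv, wd_nfW] at h'
    exact h'
  simp only [show List.range 5 = [0, 1, 2, 3, 4] from rfl, List.map_cons, List.map_nil, List.cons.injEq, and_true]
    at hM
  obtain ⟨h0, h1, h2, h3, h4⟩ := hM
  refine lin_of_gens ?_ ?_ ?_ ?_ ?_
  · exact ⟨_, by rw [e 0 (by norm_num), h0]⟩
  · exact ⟨_, by rw [e 1 (by norm_num), h1]⟩
  · exact ⟨_, by rw [e 2 (by norm_num), h2]⟩
  · exact ⟨_, by rw [e 3 (by norm_num), h3]⟩
  · exact ⟨_, by rw [e 4 (by norm_num), h4]⟩

/-- A vector from a list. -/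
def vL (l : List ℕ) : Vec := ((l.getD 0 0 : ℕ), (l.getD 1 0 : ℕ), (l.getD 2 0 : ℕ), (l.getD 3 0 : ℕ))

/-- A matrix from lists. -/
def mL (l : List (List ℕ)) : Cols := (vL (l.getD 0 []), vL (l.getD 1 []), vL (l.getD 2 []), vL (l.getD 3 []))

/-- The image of the first letter. -/
def MA : Cols := mL colsA
/-- The image of the second letter. -/
def MB : Cols := mL colsB
/-- The image of the fifth letter. -/
def MZ : Cols := mL colsZ

theorem lin_a : Lin (cj (gl 0)) MA := by
  rw [show gl 0 = wd [0] by simp [wd]]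
  exact lin_conj (ts := [10, 1, 2777, 2469, 1875]) (by decide +kernel) (by decide +kernel)

theorem lin_b : Lin (cj (gl 2)) MB := by
  rw [show gl 2 = wd [2] by simp [wd]]
  exact lin_conj (ts := [125, 2808, 1, 402, 625]) (by decide +kernel) (by decide +kernel)

/-- The code of a matrix. -/
def encC (M : Cols) : ℕ :=
  numV M.1 + 625 * (numV M.2.1 + 625 * (numV M.2.2.1 + 625 * numV M.2.2.2))

theorem numV_inj {v w : Vec} (h : numV v = numV w) : v = w := by
  obtain ⟨a0, a1, a2, a3⟩ := v
  obtain ⟨b0, b1, b2, b3⟩ := w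
  have l : ∀ a : ZMod 5, a.val < 5 := fun a => ZMod.val_lt a
  simp only [numV] at h
  have := l a0; have := l a1; have := l a2; have := l a3; have := l b0; have := l b1; have := l b2; have := l b3
  simp only [Prod.mk.injEq]
  exact ⟨ZMod.val_injective 5 (by omega), ZMod.val_injective 5 (by omega), ZMod.val_injective 5 (by omega),
    ZMod.val_injective 5 (by omega)⟩

theorem numV_lt (v : Vec) : numV v < 625 := by
  have l : ∀ a : ZMod 5, a.val < 5 := fun a => ZMod.val_lt a
  have := l v.1; have := l v.2.1; have := l v.2.2.1; have := l v.2.2.2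
  simp only [numV]
  omega

theorem encC_inj {M N : Cols} (h : encC M = encC N) : M = N := by
  obtain ⟨m0, m1, m2, m3⟩ := M
  obtain ⟨n0, n1, n2, n3⟩ := N
  simp only [encC] at h
  have := numV_lt m0; have := numV_lt m1; have := numV_lt m2; have := numV_lt n0; have := numV_lt n1
  have := numV_lt n2
  simp only [Prod.mk.injEq]
  exact ⟨numV_inj (by omega), numV_inj (by omega), numV_inj (by omega), numV_inj (by omega)⟩

/-- The matrix of a code. -/
def decC (c : ℕ) : Cols := (vecOf c, vecOf (c / 625), vecOf (c / 390625), vecOf (c / 244140625))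

/-- The generator of an entry. -/
def genC (i : ℕ) : Cols := if i = 0 then MA else MB

/-- In the list of 480. -/
noncomputable def inGL (M : Cols) : Bool := glTwo.any fun c => Nat.beq c (encC M)

/-- The checks on the list. -/
noncomputable def glOK : Bool :=
  Nat.beq glTwo.length 480 && Nat.beq glTwo.dedup.length 480 && Nat.beq (glTwo.getD 0 0) (encC idC) &&
  glTwo.all (fun c => Nat.beq (encC (decC c)) c && inGL (comp MA (decC c)) && inGL (comp MB (decC c))) &&
  (List.range 479).all fun k => Nat.ble (glPar.getD (k + 1) (0, 0)).1 k &&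
    Nat.beq (glTwo.getD (k + 1) 0) (encC (comp (genC (glPar.getD (k + 1) (0, 0)).2) (decC (glTwo.getD (glPar.getD (k + 1) (0, 0)).1 0))))

theorem gl_check : glOK = true := by decide +kernel

theorem inGL_comp {M : Cols} (h : inGL M = true) : inGL (comp MA M) = true ∧ inGL (comp MB M) = true := by
  simp only [inGL, List.any_eq_true, Nat.beq_eq] at h
  obtain ⟨c, hc, e⟩ := h
  have hk := gl_check
  simp only [glOK, Bool.and_eq_true] at hk
  have h' := List.all_eq_true.1 hk.1.2 c hc
  simp only [Bool.and_eq_true, Nat.beq_eq] at h'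
  have : decC c = M := encC_inj (h'.1.1.trans e)
  exact this ▸ ⟨h'.1.2, h'.2⟩

theorem inGL_id : inGL idC = true := by
  have hk := gl_check
  simp only [glOK, Bool.and_eq_true, Nat.beq_eq] at hk
  simp only [inGL, List.any_eq_true, Nat.beq_eq]
  refine ⟨glTwo.getD 0 0, ?_, hk.1.1.2⟩
  rw [List.getD_eq_getElem _ _ (by rw [hk.1.1.1.1]; norm_num)]
  exact List.getElem_mem _

theorem ab_lin {g : Spor.Ly} (hg : g ∈ AB) : ∃ M, Lin (cj g) M ∧ inGL M = true := by
  have hg' : g ∈ Submonoid.closure ({gl 0, gl 2} : Set Spor.Ly) := by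
    rw [← Subgroup.closure_toSubmonoid_of_finite]; exact hg
  suffices h : ∀ N, inGL N = true → ∃ M, Lin (cj g) M ∧ inGL (comp M N) = true by
    obtain ⟨M, h1, h2⟩ := h idC inGL_id
    exact ⟨M, h1, by rwa [comp_id] at h2⟩
  clear hg
  induction hg' using Submonoid.closure_induction with
  | mem x hx =>
    intro N hN
    rcases hx with rfl | rfl
    · exact ⟨MA, lin_a, (inGL_comp hN).1⟩
    · exact ⟨MB, lin_b, (inGL_comp hN).2⟩
  | one => exact fun N hN => ⟨idC, by rw [cj_one]; exact Lin_id, by rwa [id_comp]⟩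
  | mul x y _ _ hx hy =>
    intro N hN
    obtain ⟨B, hB1, hB2⟩ := hy N hN
    obtain ⟨A, hA1, hA2⟩ := hx _ hB2
    exact ⟨comp A B, by rw [cj_mul]; exact hA1.comp hB1, by rwa [comp_assoc]⟩

theorem gl_reached : ∀ k < 480, ∃ g ∈ AB, Lin (cj g) (decC (glTwo.getD k 0)) := by
  have hk := gl_check
  simp only [glOK, Bool.and_eq_true] at hk
  obtain ⟨⟨⟨⟨h480, -⟩, hid⟩, hall⟩, hpar⟩ := hk
  intro k
  induction k using Nat.strong_induction_on with
  | _ k ih =>
    intro hk
    rcases Nat.eq_zero_or_pos k with rfl | hpos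
    · have e : encC (decC (glTwo.getD 0 0)) = glTwo.getD 0 0 := by
        have hm : glTwo.getD 0 0 ∈ glTwo := by
          rw [List.getD_eq_getElem _ _ (by rw [Nat.eq_of_beq_eq_true h480]; norm_num)]; exact List.getElem_mem _
        have h' := List.all_eq_true.1 hall _ hm
        simp only [Bool.and_eq_true, Nat.beq_eq] at h'
        exact h'.1.1
      exact ⟨1, one_mem _, by rw [cj_one, encC_inj (e.trans (Nat.eq_of_beq_eq_true hid))]; exact Lin_id⟩
    · obtain ⟨j, rfl⟩ : ∃ j, k = j + 1 := ⟨k - 1, by omega⟩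
      have h' := List.all_eq_true.1 hpar j (List.mem_range.2 (by omega))
      simp only [Bool.and_eq_true, Nat.beq_eq, Nat.ble_eq] at h'
      obtain ⟨g, hg, hl⟩ := ih _ (by omega : (glPar.getD (j + 1) (0, 0)).1 < j + 1) (by omega)
      have hm : glTwo.getD (j + 1) 0 ∈ glTwo := by
        rw [List.getD_eq_getElem _ _ (by rw [Nat.eq_of_beq_eq_true h480]; omega)]; exact List.getElem_mem _
      have he := List.all_eq_true.1 hall _ hm
      simp only [Bool.and_eq_true, Nat.beq_eq] at he
      rw [encC_inj (he.1.1.trans h'.2)]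
      rcases (em ((glPar.getD (j + 1) (0, 0)).2 = 0)) with h0 | h0
      · refine ⟨gl 0 * g, mul_mem (Subgroup.subset_closure (Or.inl rfl)) hg, ?_⟩
        rw [genC, if_pos h0, cj_mul]
        exact lin_a.comp hl
      · refine ⟨gl 2 * g, mul_mem (Subgroup.subset_closure (Or.inr rfl)) hg, ?_⟩
        rw [genC, if_neg h0, cj_mul]
        exact lin_b.comp hl

/-! ### the parabolic subgroup as a product -/

instance : Finite QQ := QQ_card_le.1

theorem ab_normalizes {g : Spor.Ly} (hg : g ∈ AB) {q : Spor.Ly} (hq : q ∈ QQ) : g * q * g⁻¹ ∈ QQ := by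
  obtain ⟨M, hM, -⟩ := ab_lin hg
  exact hM.mem hq

/-- The product set. -/
noncomputable def PQ : Subgroup Spor.Ly where
  carrier := {x | ∃ q ∈ QQ, ∃ g ∈ AB, x = q * g}
  one_mem' := ⟨1, one_mem _, 1, one_mem _, (mul_one _).symm⟩
  mul_mem' := by
    rintro _ _ ⟨q, hq, g, hg, rfl⟩ ⟨r, hr, h, hh, rfl⟩
    exact ⟨q * (g * r * g⁻¹), mul_mem hq (ab_normalizes hg hr), g * h, mul_mem hg hh, by group⟩
  inv_mem' := by
    rintro _ ⟨q, hq, g, hg, rfl⟩
    exact ⟨g⁻¹ * q⁻¹ * g⁻¹⁻¹, ab_normalizes (inv_mem hg) (inv_mem hq), g⁻¹, inv_mem hg, by group⟩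

theorem map_P1_le : P1.map toLy ≤ PQ := by
  rw [Subgroup.map_le_iff_le_comap, P1, Subgroup.closure_le]
  rintro _ (rfl | rfl | rfl)
  · exact ⟨1, one_mem _, gl 0, Subgroup.subset_closure (Or.inl rfl), by rw [LyMult.toLy_L (by norm_num), one_mul]⟩
  · exact ⟨1, one_mem _, gl 2, Subgroup.subset_closure (Or.inr rfl), by rw [LyMult.toLy_L (by norm_num), one_mul]⟩
  · exact ⟨gl 4, by simpa [cc, cw, LyMult.kapW, wd] using cc_mem (i := 0) (by norm_num), 1, one_mem _,
      by rw [LyMult.toLy_L (by norm_num), mul_one]⟩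

/-- The product map. -/
noncomputable def prodMap (p : ↥QQ × ↥AB) : ↥PQ := ⟨p.1 * p.2, _, p.1.2, _, p.2.2, rfl⟩

theorem prodMap_surjective : Function.Surjective prodMap := by
  rintro ⟨_, q, hq, g, hg, rfl⟩
  exact ⟨(⟨q, hq⟩, ⟨g, hg⟩), rfl⟩

instance : Finite PQ := Finite.of_surjective _ prodMap_surjective

theorem cards : Nat.card QQ = 3125 ∧ Nat.card AB = 480 ∧ Nat.card PQ = 1500000 ∧ P1.map toLy = PQ := by
  have h1 := Nat.card_le_card_of_surjective _ prodMap_surjective
  rw [Nat.card_prod] at h1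
  have h2 : Nat.card P1 ≤ Nat.card PQ := by
    rw [← Subgroup.card_map_of_injective (K := P1) toLy_injective]
    exact Subgroup.card_le_of_le map_P1_le
  have h3 := card_P1_ge
  have hq := QQ_card_le.2
  have hg := card_AB_le.2
  have h4 : Nat.card QQ * Nat.card AB ≤ 1500000 := by
    calc Nat.card QQ * Nat.card AB ≤ 3125 * 480 := Nat.mul_le_mul hq hg
      _ = 1500000 := by norm_num
  have hpq : Nat.card PQ = 1500000 := by omega
  refine ⟨?_, ?_, hpq, Subgroup.eq_of_le_of_card_ge map_P1_le ?_⟩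
  · by_contra h
    have := Nat.mul_le_mul (show Nat.card QQ ≤ 3124 by omega) hg
    omega
  · by_contra h
    have := Nat.mul_le_mul hq (show Nat.card AB ≤ 479 by omega)
    omega
  · rw [Subgroup.card_map_of_injective toLy_injective]; omega

theorem nf_injective {v w : Vec} {k l : ZMod 5} (h : nf v k = nf w l) : v = w ∧ k = l := by
  let f : Vec × ZMod 5 → QQ := fun p => ⟨nf p.1 p.2, nf_mem _ _⟩
  have hf : Function.Bijective f := (Nat.bijective_iff_surjective_and_card f).2
    ⟨by rintro ⟨g, v, k, rfl⟩; exact ⟨(v, k), rfl⟩, by rw [cards.1]; simp⟩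
  have := hf.1 (a₁ := (v, k)) (a₂ := (w, l)) (Subtype.ext h)
  simpa using this

theorem Lin.unique {f : Spor.Ly →* Spor.Ly} {M N : Cols} (hM : Lin f M) (hN : Lin f N) : M = N := by
  have key : ∀ v, app M v = app N v := fun v => by
    obtain ⟨l, e⟩ := hM v 0
    obtain ⟨m, e'⟩ := hN v 0
    exact (nf_injective (e.symm.trans e')).1
  rw [← comp_id M, ← comp_id N]
  show (app M _, app M _, app M _, app M _) = _
  rw [key, key, key, key]
  rfl

theorem cj_QQ_lin {q : Spor.Ly} (hq : q ∈ QQ) : Lin (cj q) idC := by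
  obtain ⟨w, l, rfl⟩ := hq
  intro v k
  rw [cj_apply, nf_inv, nf_mul, nf_mul, add_neg_cancel_comm, app_id]
  exact ⟨_, rfl⟩

theorem pq_lin {x : Spor.Ly} (hx : x ∈ PQ) : ∃ M, Lin (cj x) M ∧ inGL M = true ∧ (M = idC → x ∈ QQ) := by
  classical
  obtain ⟨q, hq, g, hg, rfl⟩ := hx
  obtain ⟨M, hM, hin⟩ := ab_lin hg
  refine ⟨M, ?_, hin, fun hid => ?_⟩
  · rw [cj_mul, ← id_comp M]
    exact (cj_QQ_lin hq).comp hM
  · -- the map from the two-letter subgroup onto the list is bijective
    choose F hF1 hF2 using fun g : AB => ab_lin g.2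
    have hk := gl_check
    simp only [glOK, Bool.and_eq_true, Nat.beq_eq] at hk
    have hsurj : ∀ c ∈ glTwo, ∃ g : AB, encC (F g) = c := by
      intro c hc
      obtain ⟨k, hk', rfl⟩ := List.getElem_of_mem hc
      obtain ⟨g, hg, hl⟩ := gl_reached k (by omega)
      refine ⟨⟨g, hg⟩, ?_⟩
      rw [(hF1 ⟨g, hg⟩).unique hl, List.getD_eq_getElem _ _ hk']
      have h' := List.all_eq_true.1 hk.1.2 _ (List.getElem_mem hk')
      simp only [Bool.and_eq_true, Nat.beq_eq] at h'
      exact h'.1.1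
    let S := {c : ℕ // c ∈ glTwo.toFinset}
    let Φ : AB → S := fun g => ⟨encC (F g), by
      have h := hF2 g
      simp only [inGL, List.any_eq_true, Nat.beq_eq] at h
      obtain ⟨c, hc, e⟩ := h
      rw [List.mem_toFinset, ← e]
      exact hc⟩
    have hΦ : Function.Bijective Φ := (Nat.bijective_iff_surjective_and_card Φ).2 ⟨fun ⟨c, hc⟩ => by
        obtain ⟨g, e⟩ := hsurj c (List.mem_toFinset.1 hc)
        exact ⟨g, Subtype.ext e⟩, by
        rw [cards.2.1, Nat.card_eq_fintype_card, Fintype.card_coe, List.card_toFinset]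
        exact hk.1.1.1.2.symm⟩
    have e1 : F ⟨g, hg⟩ = idC := ((hF1 ⟨g, hg⟩).unique hM).trans hid
    have e2 : F 1 = idC := (hF1 1).unique (by rw [OneMemClass.coe_one, cj_one]; exact Lin_id)
    have := congrArg Subtype.val (hΦ.1 (a₁ := ⟨g, hg⟩) (a₂ := 1) (Subtype.ext (by simp only [Φ, e1, e2])))
    rw [show g = 1 from this, mul_one]
    exact hq

/-! ### the stabiliser of the line -/

theorem el4_pow_nfW (t : ℕ) : toLy (el4 (nfW t)) = nf (vecOf t) ((t / 625 : ℕ) : ZMod 5) := by
  rw [toLy_el4, wd_nfW]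
  have h : ∀ i < 5, (cw i).all (fun k => Nat.blt k 8) = true := by decide +kernel
  simp only [nfW, List.all_append, Bool.and_eq_true]
  refine ⟨?_, ?_, ?_, ?_, ?_⟩ <;>
    (simp only [List.all_eq_true, List.mem_flatten, List.mem_replicate]; rintro x ⟨l, ⟨-, rfl⟩, hx⟩
     first
      | exact List.all_eq_true.1 (h 0 (by norm_num)) x hx
      | exact List.all_eq_true.1 (h 1 (by norm_num)) x hx
      | exact List.all_eq_true.1 (h 2 (by norm_num)) x hx
      | exact List.all_eq_true.1 (h 3 (by norm_num)) x hx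
      | exact List.all_eq_true.1 (h 4 (by norm_num)) x hx)

end CfsgLib.Sporadic.LyOut
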