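import Cfsg.Agent.Lib.Sporadic.LyOut.Orbit
import Cfsg.Agent.Lib.Sporadic.LyLower.Stab
import Mathlib.GroupTheory.PGroup

/-!
# The fixed cosets of some 5-subgroups and the centraliser of the subgroup of order 3125 (owner: helper21)

The subgroup of order 3125 fixes six cosets of G2(5); the one of order 15625 above it fixes the base only.
-/

set_option autoImplicit false
set_option maxRecDepth 20000

namespace CfsgLib.Sporadic.LyOut

open Cfsg
open CfsgLib.Sporadic.LyGTwo (P4 L toLy toLy_injective)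
open CfsgLib.Sporadic.LyGroup (gl gl_flp)
open CfsgLib.Sporadic.LyCoset (N0 W W_base ev pt pw stabP mem_stabP gensK genW mGen toPt toPt_surjective isN)

/-- The points. -/
abbrev Pt : Type := Spor.Ly ⧸ N0

/-- The base point. -/
noncomputable def base : Pt := ((1 : Spor.Ly) : Pt)

theorem smul_base_iff {g : Spor.Ly} : g • base = base ↔ g ∈ N0 := by
  rw [base, MulAction.Quotient.smul_coe, smul_eq_mul, mul_one, QuotientGroup.eq, mul_one, inv_mem_iff]

theorem pt_zero : pt 0 = base := by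
  rw [pt, base, W_base.1, LyCoset.ev_nil, inv_one]

/-- The stabiliser of the representative of the orbit of 19530 cosets. -/
noncomputable def K1 : Subgroup Spor.Ly := (stabP 1).map toLy

theorem card_K1 : Nat.card K1 = 300000 := by
  rw [K1, Subgroup.card_map_of_injective toLy_injective, LyLower.card_stabP (by simp)]
  rfl

theorem gl_mem_PQ : ∀ k < 6, gl k ∈ PQ := by
  have hgen : ∀ k ∈ ([0, 2, 4] : List ℕ), gl k ∈ PQ := by
    intro k hk
    have h8 : k < 8 := by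
      simp only [List.mem_cons, List.not_mem_nil, or_false] at hk
      omega
    rw [← LyMult.toLy_L h8, mem_P1_of_toLy]
    exact Subgroup.subset_closure (by
      simp only [List.mem_cons, List.not_mem_nil, or_false] at hk
      rcases hk with rfl | rfl | rfl <;> simp)
  intro k hk
  interval_cases k
  · exact hgen 0 (by simp)
  · exact (show gl 1 = (gl 0)⁻¹ from gl_flp 0) ▸ inv_mem (hgen 0 (by simp))
  · exact hgen 2 (by simp)
  · exact (show gl 3 = (gl 2)⁻¹ from gl_flp 2) ▸ inv_mem (hgen 2 (by simp))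
  · exact hgen 4 (by simp)
  · exact (show gl 5 = (gl 4)⁻¹ from gl_flp 4) ▸ inv_mem (hgen 4 (by simp))

theorem wd_mem_PQ {w : List ℕ} (hw : w.all (fun k => Nat.blt k 6) = true) : wd w ∈ PQ :=
  Subgroup.list_prod_mem _ fun x hx => by
    obtain ⟨k, hk, rfl⟩ := List.mem_map.1 hx
    exact gl_mem_PQ k (Nat.blt_eq.mp (List.all_eq_true.1 hw k hk))

theorem genW_one : genW 1 = mGen := by decide +kernel

theorem toLy_pw {w : List ℕ} (hw : w.all (fun k => Nat.blt k 8) = true) : toLy (pw w) = wd w :=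
  toLy_word fun k hk => Nat.blt_eq.mp (List.all_eq_true.1 hw k hk)

theorem K1_le_PQ : K1 ≤ PQ := by
  have hm : mGen.all (fun w => w.all (fun k => Nat.blt k 6) && w.all (fun k => Nat.blt k 8)) = true := by
    decide +kernel
  rw [K1, LyLower.stabP_eq_gensK (by simp), Subgroup.map_le_iff_le_comap, gensK, Subgroup.closure_le]
  rintro _ ⟨w, hw, rfl⟩
  rw [genW_one] at hw
  have h := List.all_eq_true.1 hm w hw
  rw [Bool.and_eq_true] at h
  show toLy (pw w) ∈ PQ
  rw [toLy_pw h.2]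
  exact wd_mem_PQ h.1

theorem cc_mem_K1 {i : ℕ} (hi : i < 5) : cc i ∈ K1 := by
  have h : ∀ i < 5, (cw i).all (fun k => Nat.blt k 8) = true ∧ mGen.contains (cw i) = true := by decide +kernel
  refine ⟨pw (cw i), ?_, toLy_pw (h i hi).1⟩
  rw [LyLower.stabP_eq_gensK (by simp)]
  exact Subgroup.subset_closure ⟨_, genW_one ▸ List.contains_iff_mem.1 (h i hi).2, rfl⟩

theorem QQ_le_K1 : QQ ≤ K1 := by
  rintro _ ⟨v, k, rfl⟩
  have h : ∀ i < 5, ∀ a, zp (cc i) a ∈ K1 := fun i hi a => pow_mem (cc_mem_K1 hi) _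
  exact mul_mem (mul_mem (mul_mem (mul_mem (h 0 (by norm_num) _) (h 1 (by norm_num) _)) (h 2 (by norm_num) _))
    (h 3 (by norm_num) _)) (h 4 (by norm_num) _)

theorem QQ_le_N0 : QQ ≤ N0 := QQ_le_range

theorem PQ_le_N0 : PQ ≤ N0 := by
  rw [← cards.2.2.2]
  rintro _ ⟨x, -, rfl⟩
  exact ⟨x, rfl⟩

theorem PQ_normalizes {g q : Spor.Ly} (hg : g ∈ PQ) (hq : q ∈ QQ) : g * q * g⁻¹ ∈ QQ := by
  obtain ⟨M, hM, -⟩ := pq_lin hg
  exact hM.mem hq

theorem five_elem {x : Spor.Ly} (hx : x ∈ K1) (h5 : x ^ 15625 = 1) : x ∈ QQ := by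
  have hn : (QQ.subgroupOf K1).Normal := ⟨fun n hn g => by
    rw [Subgroup.mem_subgroupOf] at hn ⊢
    exact PQ_normalizes (K1_le_PQ g.2) hn⟩
  have hc : Nat.card (QQ.subgroupOf K1) = 3125 := by
    rw [Nat.card_congr (Subgroup.subgroupOfEquivOfLe QQ_le_K1).toEquiv, cards.1]
  have hi : (QQ.subgroupOf K1).index = 96 := by
    have := (QQ.subgroupOf K1).card_mul_index
    rw [hc, card_K1] at this
    omega
  have h := Subgroup.pow_index_mem (QQ.subgroupOf K1) ⟨x, hx⟩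
  rw [hi, Subgroup.mem_subgroupOf, SubmonoidClass.coe_pow] at h
  have e : x = (x ^ 96) ^ 11556 := by
    rw [← pow_mul, show 96 * 11556 = 15625 * 71 + 1 from rfl, pow_succ, pow_mul, h5, one_pow, one_mul]
  rw [e]
  exact pow_mem h _

theorem b_five : gl 2 ^ 5 = 1 := by
  have h : LyMult.eqA [2, 2, 2, 2, 2] [] = true := by decide +kernel
  simpa [wd, pow_succ, mul_assoc] using wd_eq h

/-- The subgroup of order 15625. -/
noncomputable def SS : Subgroup Spor.Ly where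
  carrier := {x | ∃ q ∈ QQ, ∃ i : ℕ, x = q * gl 2 ^ i}
  one_mem' := ⟨1, one_mem _, 0, by simp⟩
  mul_mem' := by
    rintro _ _ ⟨q, hq, i, rfl⟩ ⟨r, hr, j, rfl⟩
    refine ⟨q * (gl 2 ^ i * r * (gl 2 ^ i)⁻¹), mul_mem hq (PQ_normalizes (pow_mem (gl_mem_PQ 2 (by norm_num)) i) hr),
      i + j, ?_⟩
    rw [pow_add]
    group
  inv_mem' := by
    rintro _ ⟨q, hq, i, rfl⟩
    have h5 := b_five
    have e : (gl 2 ^ i)⁻¹ = gl 2 ^ (4 * i) := by
      apply inv_eq_of_mul_eq_one_right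
      rw [← pow_add, show i + 4 * i = 5 * i by ring, pow_mul, h5, one_pow]
    refine ⟨gl 2 ^ (4 * i) * q⁻¹ * (gl 2 ^ (4 * i))⁻¹,
      PQ_normalizes (pow_mem (gl_mem_PQ 2 (by norm_num)) _) (inv_mem hq), 4 * i, ?_⟩
    rw [mul_inv_rev, e]
    group

/-- The powers of the second matrix. -/
def MBp : ℕ → Cols
  | 0 => idC
  | n + 1 => comp MB (MBp n)

theorem lin_b_pow : ∀ n, Lin (cj (gl 2 ^ n)) (MBp n)
  | 0 => by rw [pow_zero, cj_one]; exact Lin_id
  | n + 1 => by rw [pow_succ', cj_mul]; exact lin_b.comp (lin_b_pow n)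

theorem MBp_ne (n : ℕ) (h5 : n < 5) (h1 : 1 ≤ n) : MBp n ≠ idC := fun h =>
  (show ∀ m : Fin 5, 1 ≤ m.val → encC (MBp m.val) ≠ encC idC by decide +kernel) ⟨n, h5⟩ h1 (congrArg encC h)

theorem b_pow_mem {n : ℕ} (h : gl 2 ^ n ∈ QQ) : n % 5 = 0 := by
  by_contra h0
  have e : gl 2 ^ n = gl 2 ^ (n % 5) := pow_eq_pow_mod n b_five
  rw [e] at h
  exact MBp_ne (n % 5) (Nat.mod_lt _ (by norm_num)) (by omega) ((lin_b_pow _).unique (cj_QQ_lin h))

theorem card_SS : Nat.card SS = 15625 := by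
  let f : QQ × Fin 5 → SS := fun p => ⟨p.1 * gl 2 ^ p.2.val, _, p.1.2, _, rfl⟩
  have hf : Function.Bijective f := by
    constructor
    · rintro ⟨q, i⟩ ⟨r, j⟩ h
      have h' : (q : Spor.Ly) * gl 2 ^ i.val = r * gl 2 ^ j.val := congrArg Subtype.val h
      have hij : i = j := by
        have e : gl 2 ^ (i.val + (5 - j.val)) = (q : Spor.Ly)⁻¹ * r := by
          rw [pow_add, show gl 2 ^ i.val = (q : Spor.Ly)⁻¹ * r * gl 2 ^ j.val by rw [mul_assoc, ← h']; group,
            mul_assoc, ← pow_add, show j.val + (5 - j.val) = 5 by omega, b_five, mul_one]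
        have := b_pow_mem (e ▸ mul_mem (inv_mem q.2) r.2)
        exact Fin.ext (by omega)
      subst hij
      exact Prod.ext (Subtype.ext (mul_right_cancel h')) rfl
    · rintro ⟨_, q, hq, i, rfl⟩
      exact ⟨(⟨q, hq⟩, ⟨i % 5, Nat.mod_lt _ (by norm_num)⟩),
        Subtype.ext (by simp only [f]; rw [← pow_eq_pow_mod i b_five])⟩
  rw [← Nat.card_congr (Equiv.ofBijective f hf), Nat.card_prod, cards.1, Nat.card_eq_fintype_card, Fintype.card_fin]

theorem QQ_le_SS : QQ ≤ SS := fun q hq => ⟨q, hq, 0, by simp⟩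

theorem b_mem_SS : gl 2 ∈ SS := ⟨1, one_mem _, 1, by simp⟩

theorem SS_le_PQ : SS ≤ PQ := by
  rintro _ ⟨q, hq, i, rfl⟩
  exact mul_mem ⟨q, hq, 1, one_mem _, (mul_one q).symm⟩ (pow_mem (gl_mem_PQ 2 (by norm_num)) i)

theorem SS_normalizes {s q : Spor.Ly} (hs : s ∈ SS) (hq : q ∈ QQ) : s * q * s⁻¹ ∈ QQ :=
  PQ_normalizes (SS_le_PQ hs) hq

theorem SS_le_N0 : SS ≤ N0 := SS_le_PQ.trans PQ_le_N0

instance : Finite SS := Nat.finite_of_card_ne_zero (by rw [card_SS]; norm_num)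

theorem pow_of_mem_SS {x : Spor.Ly} (hx : x ∈ SS) : x ^ 15625 = 1 := by
  have h := pow_card_eq_one' (G := SS) (x := ⟨x, hx⟩)
  rw [card_SS] at h
  simpa using congrArg Subtype.val h

/-! ### fixed points -/

theorem fixed_point {R : Subgroup Spor.Ly} (hR : R ≤ SS) (hc : 25 ∣ Nat.card R) {q : Pt}
    (hq : ∀ r ∈ R, r • q = q) :
    q = base ∨ ∃ g ∈ N0, q = g • pt 1 ∧ (∀ r ∈ R, g⁻¹ * r * g ∈ QQ) ∧ Nat.card R ∣ 300000 := by
  obtain ⟨⟨k, c⟩, rfl⟩ := toPt_surjective q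
  obtain ⟨h, rfl⟩ := QuotientGroup.mk_surjective c
  change toLy h • pt k.val = base ∨ ∃ g ∈ N0, toLy h • pt k.val = g • pt 1 ∧ _
  change ∀ r ∈ R, r • (toLy h • pt k.val) = toLy h • pt k.val at hq
  let R' : Subgroup Spor.Ly := R.map (MulAut.conj (toLy h)⁻¹).toMonoidHom
  have hle : R' ≤ (stabP k.val).map toLy := by
    rintro _ ⟨r, hr, rfl⟩
    obtain ⟨y, hy⟩ : (toLy h)⁻¹ * r * toLy h ∈ N0 :=
      mul_mem (mul_mem (inv_mem ⟨h, rfl⟩) (SS_le_N0 (hR hr))) ⟨h, rfl⟩
    refine ⟨y, ?_, by simpa using hy⟩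
    show toLy y • pt k.val = pt k.val
    rw [hy, mul_smul, mul_smul, hq r hr, inv_smul_smul]
  have hd : Nat.card R ∣ Nat.card ((stabP k.val).map toLy) := by
    rw [← Subgroup.card_map_of_injective (K := R) (f := (MulAut.conj (toLy h)⁻¹).toMonoidHom)
      (MulEquiv.injective _)]
    exact Subgroup.card_dvd_of_le hle
  rw [Subgroup.card_map_of_injective toLy_injective] at hd
  rcases Nat.eq_zero_or_pos k.val with h0 | hpos
  · left
    rw [h0, pt_zero, smul_base_iff]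
    exact ⟨h, rfl⟩
  have hk : k.val ∈ [1, 2, 3, 4] := by
    have := k.isLt
    simp only [List.mem_cons, List.not_mem_nil, or_false]
    omega
  rw [LyLower.card_stabP hk] at hd
  have h25 := hc.trans hd
  have hk1 : k.val = 1 := by
    have := k.isLt
    interval_cases hkv : k.val
    · rfl
    all_goals exact absurd h25 (by decide +kernel)
  right
  refine ⟨toLy h, ⟨h, rfl⟩, by rw [hk1], fun r hr => ?_, ?_⟩
  · refine five_elem ?_ ?_
    · have h1 : (toLy h)⁻¹ * r * toLy h ∈ R' := ⟨r, hr, by simp⟩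
      have h2 := hle h1
      rwa [hk1] at h2
    · have e : ((toLy h)⁻¹ * r * toLy h) ^ 15625 = (toLy h)⁻¹ * r ^ 15625 * toLy h := by
        simpa using (conj_pow (a := (toLy h)⁻¹) (b := r) (i := 15625))
      rw [e, pow_of_mem_SS (hR hr), mul_one, inv_mul_cancel]
  · rw [hk1] at hd
    exact hd

theorem fix_SS {q : Pt} (hq : ∀ r ∈ SS, r • q = q) : q = base := by
  rcases fixed_point le_rfl (by rw [card_SS]; norm_num) hq with h | ⟨g, -, -, -, hd⟩
  · exact h
  · rw [card_SS] at hd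
    omega

theorem mem_PQ_of_conj {g : Spor.Ly} (hg : g ∈ N0) (h : ∀ q ∈ QQ, g * q * g⁻¹ ∈ QQ) : g ∈ PQ := by
  obtain ⟨x, rfl⟩ := hg
  exact mem_PQ_of_normalizes h

theorem pt_one_fixed {m : Spor.Ly} (hm : m ∈ K1) : m • pt 1 = pt 1 := by
  obtain ⟨y, hy, rfl⟩ := hm
  exact hy

theorem b_not_mem_K1 : gl 2 ∉ K1 := fun h => by
  have := b_pow_mem (n := 1) (by
    rw [pow_one]
    exact five_elem h (pow_of_mem_SS b_mem_SS))
  omega

theorem PQ_decomp {g : Spor.Ly} (hg : g ∈ PQ) : ∃ i : Fin 5, ∃ m ∈ K1, g = gl 2 ^ i.val * m := by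
  let f : Fin 5 × K1 → PQ := fun p => ⟨gl 2 ^ p.1.val * p.2,
    mul_mem (pow_mem (gl_mem_PQ 2 (by norm_num)) _) (K1_le_PQ p.2.2)⟩
  have : Finite K1 := Nat.finite_of_card_ne_zero (by rw [card_K1]; norm_num)
  have hinj : Function.Injective f := by
    rintro ⟨i, m⟩ ⟨j, n⟩ h
    have h' : gl 2 ^ i.val * (m : Spor.Ly) = gl 2 ^ j.val * n := congrArg Subtype.val h
    have hij : i = j := by
      by_contra hne
      have hd : gl 2 ^ (i.val + (5 - j.val)) ∈ K1 := by
        have e : gl 2 ^ (i.val + (5 - j.val)) = (n : Spor.Ly) * (m : Spor.Ly)⁻¹ := by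
          have h1 : gl 2 ^ (5 - j.val) * gl 2 ^ j.val = 1 := by
            rw [← pow_add, show 5 - j.val + j.val = 5 by omega, b_five]
          calc gl 2 ^ (i.val + (5 - j.val)) = gl 2 ^ (5 - j.val) * (gl 2 ^ i.val * m) * (m : Spor.Ly)⁻¹ := by
                rw [add_comm i.val, pow_add]; group
            _ = _ := by rw [h', ← mul_assoc _ (gl 2 ^ j.val), h1, one_mul]
        exact e ▸ mul_mem n.2 (inv_mem m.2)
      have := b_pow_mem (five_elem hd (pow_of_mem_SS (pow_mem b_mem_SS _)))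
      exact hne (Fin.ext (by omega))
    subst hij
    exact Prod.ext rfl (Subtype.ext (mul_left_cancel h'))
  have hb := (Nat.bijective_iff_injective_and_card f).2 ⟨hinj, by
    rw [Nat.card_prod, Nat.card_eq_fintype_card, Fintype.card_fin, card_K1, cards.2.2.1]⟩
  obtain ⟨⟨i, m⟩, hp⟩ := hb.2 ⟨g, hg⟩
  exact ⟨i, m, m.2, (congrArg Subtype.val hp).symm⟩

/-- The six cosets. -/
noncomputable def sixPt : Option (Fin 5) → Pt
  | none => base
  | some i => gl 2 ^ i.val • pt 1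

theorem fix_QQ {q : Pt} (hq : ∀ r ∈ QQ, r • q = q) : q ∈ Set.range sixPt := by
  rcases fixed_point QQ_le_SS (by rw [cards.1]; norm_num) hq with h | ⟨g, hg, rfl, hconj, -⟩
  · exact ⟨none, h.symm⟩
  have hg' : g⁻¹ ∈ PQ := mem_PQ_of_conj (inv_mem hg) fun r hr => by rw [inv_inv]; exact hconj r hr
  obtain ⟨i, m, hm, rfl⟩ := PQ_decomp ((inv_mem_iff).1 hg')
  exact ⟨some i, by rw [mul_smul, pt_one_fixed hm]; rfl⟩

/-! ### the centraliser -/

theorem nf_zero_comm (k : ZMod 5) (v : Vec) (l : ZMod 5) : Commute (nf 0 k) (nf v l) := by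
  rw [Commute, SemiconjBy, nf_mul, nf_mul, zero_add, add_zero]
  congr 1
  simp [bil]
  ring

/-- The centre of the subgroup of order 3125. -/
noncomputable def XX : Subgroup Spor.Ly where
  carrier := {x | ∃ k, x = nf 0 k}
  one_mem' := ⟨0, nf_zero.symm⟩
  mul_mem' := by
    rintro _ _ ⟨k, rfl⟩ ⟨l, rfl⟩
    exact ⟨k + l + bil 0 0, by rw [nf_mul, add_zero]⟩
  inv_mem' := by
    rintro _ ⟨k, rfl⟩
    exact ⟨-k + bil 0 0, by rw [nf_inv, neg_zero]⟩

theorem form_nondeg : ((List.range 625).all fun t =>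
    !(Nat.beq (bil (vecOf t) (unitVec 0)).val (bil (unitVec 0) (vecOf t)).val &&
      Nat.beq (bil (vecOf t) (unitVec 1)).val (bil (unitVec 1) (vecOf t)).val &&
      Nat.beq (bil (vecOf t) (unitVec 2)).val (bil (unitVec 2) (vecOf t)).val &&
      Nat.beq (bil (vecOf t) (unitVec 3)).val (bil (unitVec 3) (vecOf t)).val) || Nat.beq t 0) = true := by
  decide +kernel

theorem vecOf_numV (v : Vec) : vecOf (numV v) = v := by
  apply numV_inj
  have := ZMod.val_lt v.1; have := ZMod.val_lt v.2.1; have := ZMod.val_lt v.2.2.1; have := ZMod.val_lt v.2.2.2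
  simp only [numV, vecOf, ZMod.val_natCast]
  omega

theorem center_QQ {x : Spor.Ly} (hx : x ∈ QQ) (h : ∀ i < 4, Commute x (cc i)) : x ∈ XX := by
  obtain ⟨v, k, rfl⟩ := hx
  have e : ∀ i < 4, bil v (unitVec i) = bil (unitVec i) v := by
    intro i hi
    have h' := (h i hi).eq
    rw [cc_eq_nf hi, nf_mul, nf_mul] at h'
    have := (nf_injective h').2
    simpa [add_comm k] using this
  have h0 := List.all_eq_true.1 form_nondeg (numV v) (List.mem_range.2 (numV_lt v))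
  rw [vecOf_numV, e 0 (by norm_num), e 1 (by norm_num), e 2 (by norm_num), e 3 (by norm_num)] at h0
  simp at h0
  exact ⟨k, by rw [show v = 0 from vecOf_numV v ▸ h0 ▸ (by decide : vecOf 0 = 0)]⟩

theorem cent_N0 {x : Spor.Ly} (hx : x ∈ N0) (h : ∀ q ∈ QQ, x * q = q * x) : x ∈ XX := by
  have hn : ∀ q ∈ QQ, x * q * x⁻¹ = q := fun q hq => by rw [h q hq, mul_inv_cancel_right]
  obtain ⟨M, hM, -, hid⟩ := pq_lin (mem_PQ_of_conj hx fun q hq => (hn q hq).symm ▸ hq)
  have hQ : Lin (cj x) idC := fun v k => ⟨k, by rw [cj_apply, hn _ (nf_mem v k), app_id]⟩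
  exact center_QQ (hid (hM.unique hQ)) fun i hi => h _ (cc_mem (by omega))

/-- The centraliser. -/
noncomputable def CC : Subgroup Spor.Ly := Subgroup.centralizer (QQ : Set Spor.Ly)

theorem mem_CC {x : Spor.Ly} : x ∈ CC ↔ ∀ q ∈ QQ, x * q = q * x := by
  rw [CC, Subgroup.mem_centralizer_iff]
  exact ⟨fun h q hq => (h q hq).symm, fun h q hq => (h q hq).symm⟩

theorem SS_conj_CC {s c : Spor.Ly} (hs : s ∈ SS) (hc : c ∈ CC) : s * c * s⁻¹ ∈ CC := by
  rw [mem_CC] at hc ⊢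
  intro q hq
  have h := hc _ (SS_normalizes (inv_mem hs) hq)
  rw [inv_inv] at h
  calc s * c * s⁻¹ * q = s * (c * (s⁻¹ * q * s)) * s⁻¹ := by group
    _ = _ := by rw [h]; group

/-- The orbit of the base under the centraliser. -/
def Orb : Type := {q : Pt // ∃ c ∈ CC, c • base = q}

noncomputable instance : MulAction SS Orb where
  smul s q := ⟨(s : Spor.Ly) • q.1, by
    obtain ⟨c, hc, e⟩ := q.2
    refine ⟨s * c * (s : Spor.Ly)⁻¹, SS_conj_CC s.2 hc, ?_⟩
    rw [mul_smul, smul_base_iff.2 (inv_mem (SS_le_N0 s.2)), mul_smul, e]⟩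
  one_smul q := Subtype.ext (one_smul Spor.Ly q.1)
  mul_smul s t q := Subtype.ext (mul_smul (s : Spor.Ly) (t : Spor.Ly) q.1)

theorem cent_base {c : Spor.Ly} (hc : c ∈ CC) : c • base = base := by
  classical
  have : Fact (Nat.Prime 5) := ⟨by norm_num⟩
  have hfix : ∀ q : Orb, q.1 ∈ Set.range sixPt := by
    rintro ⟨q, c', hc', rfl⟩
    refine fix_QQ fun r hr => ?_
    rw [← mul_smul, ← mem_CC.1 hc' r hr, mul_smul, smul_base_iff.2 (QQ_le_N0 hr)]
  have hfinP : Finite Pt := LyCoset.finite_cosets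
  have : Finite Orb := Subtype.finite
  have hle : Nat.card Orb ≤ 6 := by
    calc Nat.card Orb ≤ Nat.card (Set.range sixPt) :=
          Nat.card_le_card_of_injective (fun q => ⟨q.1, hfix q⟩) fun a b h => Subtype.ext (by simpa using h)
      _ ≤ Nat.card (Option (Fin 5)) := Nat.card_le_card_of_surjective _ Set.rangeFactorization_surjective
      _ = 6 := by simp [Nat.card_eq_fintype_card]
  have hP : IsPGroup 5 SS := IsPGroup.of_card (n := 6) (by rw [card_SS]; norm_num)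
  let o : Orb := ⟨base, 1, one_mem _, one_smul _ _⟩
  have hfixed : ∀ q ∈ MulAction.fixedPoints SS Orb, q = o := fun q hq =>
    Subtype.ext (fix_SS fun r hr => congrArg Subtype.val (hq ⟨r, hr⟩))
  have ho : o ∈ MulAction.fixedPoints SS Orb := fun s => Subtype.ext (smul_base_iff.2 (SS_le_N0 s.2))
  have h1 : Nat.card (MulAction.fixedPoints SS Orb) = 1 := by
    rw [Nat.card_eq_one_iff_exists]
    exact ⟨⟨o, ho⟩, fun q => Subtype.ext (hfixed q.1 q.2)⟩
  have hmod := hP.card_modEq_card_fixedPoints Orb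
  rw [h1, Nat.ModEq] at hmod
  by_contra hne
  have h2 : Nat.card Orb = 6 := by
    have : Nat.card Orb ≠ 1 := fun h => hne (by
      obtain ⟨q, hq⟩ := Nat.card_eq_one_iff_exists.1 h
      exact congrArg Subtype.val ((hq ⟨c • base, c, hc, rfl⟩).trans (hq o).symm))
    omega
  -- the centre is a normal subgroup of index six
  have hXC : ∀ x ∈ XX, ∀ d ∈ CC, Commute d x := by
    rintro _ ⟨k, rfl⟩ d hd
    exact mem_CC.1 hd _ (nf_mem _ _)
  let H : Subgroup CC := XX.subgroupOf CC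
  have hHn : H.Normal := ⟨fun n hn g => by
    rw [Subgroup.mem_subgroupOf] at hn ⊢
    rw [Subgroup.coe_mul, Subgroup.coe_mul, Subgroup.coe_inv, (hXC _ hn _ g.2).eq, mul_inv_cancel_right]
    exact hn⟩
  have hstab : MulAction.stabilizer CC base = H := by
    ext d
    rw [MulAction.mem_stabilizer_iff, Subgroup.mem_subgroupOf]
    refine ⟨fun h => cent_N0 (smul_base_iff.1 h) (mem_CC.1 d.2), ?_⟩
    rintro ⟨k, e⟩
    refine smul_base_iff.2 ?_
    show (d : Spor.Ly) ∈ N0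
    rw [show (d : Spor.Ly) = nf 0 k from e]
    exact QQ_le_N0 (nf_mem _ _)
  have hidx : H.index = 6 := by
    rw [← hstab, MulAction.index_stabilizer, ← h2]
    refine (Nat.card_coe_set_eq _).symm.trans (Nat.card_congr (Equiv.subtypeEquivRight fun q => ?_))
    exact ⟨fun ⟨d, e⟩ => ⟨d, d.2, e⟩, fun ⟨d, hd, e⟩ => ⟨⟨d, hd⟩, e⟩⟩
  have hQc : Nat.card (CC ⧸ H) = 6 := hidx
  have : Finite CC := Subtype.finite
  obtain ⟨a, ha⟩ := @exists_prime_orderOf_dvd_card' (CC ⧸ H) _ _ 2 ⟨by norm_num⟩ (by rw [hQc]; norm_num)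
  obtain ⟨d, hd⟩ := @exists_prime_orderOf_dvd_card' (CC ⧸ H) _ _ 3 ⟨by norm_num⟩ (by rw [hQc]; norm_num)
  obtain ⟨a, rfl⟩ := QuotientGroup.mk_surjective a
  obtain ⟨d, rfl⟩ := QuotientGroup.mk_surjective d
  have ha2 : (a : Spor.Ly) ^ 2 ∈ XX := by
    have := pow_orderOf_eq_one (a : CC ⧸ H)
    rw [ha, ← QuotientGroup.mk_pow, QuotientGroup.eq_one_iff, Subgroup.mem_subgroupOf] at this
    exact this
  have hd3 : (d : Spor.Ly) ^ 3 ∈ XX := by
    have := pow_orderOf_eq_one (d : CC ⧸ H)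
    rw [hd, ← QuotientGroup.mk_pow, QuotientGroup.eq_one_iff, Subgroup.mem_subgroupOf] at this
    exact this
  have hnot : ∀ x : CC, orderOf (x : CC ⧸ H) ≠ 1 → (x : Spor.Ly) • base ≠ base := fun x hx hb => by
    apply hx
    rw [orderOf_eq_one_iff, QuotientGroup.eq_one_iff, ← hstab]
    exact hb
  have hab := hnot a (by rw [ha]; norm_num)
  have hdb := hnot d (by rw [hd]; norm_num)
  let qa : Orb := ⟨(a : Spor.Ly) • base, a, a.2, rfl⟩
  let qd : Orb := ⟨(d : Spor.Ly) • base, d, d.2, rfl⟩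
  obtain ⟨n, hn⟩ := hP.card_orbit (α := Orb) qa
  have hno : o ∉ MulAction.orbit SS qa := by
    rintro ⟨s, hs⟩
    have e : qa = o := by rw [← inv_smul_smul s qa, show s • qa = o from hs]; exact ho _
    exact hab (congrArg Subtype.val e)
  have hsub : MulAction.orbit SS qa ⊆ {o}ᶜ := fun q hq hqo => hno (hqo ▸ hq)
  have hn1 : n = 1 := by
    have hle' : Nat.card (MulAction.orbit SS qa) ≤ 6 := h2 ▸ Finite.card_subtype_le _
    rcases Nat.lt_or_ge n 2 with h | h
    · rcases Nat.eq_zero_or_pos n with rfl | hp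
      · exfalso
        rw [pow_zero, Nat.card_eq_one_iff_exists] at hn
        obtain ⟨z, hz⟩ := hn
        have hf : qa ∈ MulAction.fixedPoints SS Orb := fun s => congrArg Subtype.val
          ((hz ⟨s • qa, MulAction.mem_orbit _ _⟩).trans (hz ⟨qa, MulAction.mem_orbit_self _⟩).symm)
        exact hab (congrArg Subtype.val (hfixed _ hf))
      · omega
    · exfalso
      have := Nat.pow_le_pow_right (show 0 < 5 by norm_num) h
      omega
  have hall : MulAction.orbit SS qa = {o}ᶜ := by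
    refine Set.eq_of_subset_of_ncard_le hsub ?_ (Set.toFinite _)
    rw [Set.ncard_compl, Set.ncard_singleton, h2, ← Nat.card_coe_set_eq, hn, hn1]
    norm_num
  obtain ⟨s, hs⟩ : qd ∈ MulAction.orbit SS qa := by
    rw [hall]
    exact fun h => hdb (congrArg Subtype.val h)
  have hs' : ((s : Spor.Ly) * a * (s : Spor.Ly)⁻¹) • base = (d : Spor.Ly) • base := by
    rw [mul_smul, smul_base_iff.2 (inv_mem (SS_le_N0 s.2)), mul_smul]
    exact congrArg Subtype.val hs
  have hx : (d : Spor.Ly)⁻¹ * (s * a * (s : Spor.Ly)⁻¹) ∈ XX :=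
    cent_N0 (smul_base_iff.1 (by rw [mul_smul, hs', inv_smul_smul]))
      (mem_CC.1 (mul_mem (inv_mem d.2) (SS_conj_CC s.2 a.2)))
  have hd2 : (d : Spor.Ly) ^ 2 ∈ XX := by
    obtain ⟨k, hk⟩ := ha2
    have hsa : ((s : Spor.Ly) * a * (s : Spor.Ly)⁻¹) ^ 2 ∈ XX := by
      rw [conj_pow, hk]
      obtain ⟨M, hM, -⟩ := pq_lin (SS_le_PQ s.2)
      obtain ⟨l, el⟩ := hM 0 k
      rw [cj_apply] at el
      exact ⟨l, el.trans (by rw [show app M 0 = 0 by simp [app, sm]])⟩
    set x := (d : Spor.Ly)⁻¹ * (s * a * (s : Spor.Ly)⁻¹) with hxd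
    have e : ((s : Spor.Ly) * a * (s : Spor.Ly)⁻¹) = (d : Spor.Ly) * x := by rw [hxd, mul_inv_cancel_left]
    rw [e, (hXC x hx _ d.2).mul_pow] at hsa
    simpa using mul_mem hsa (inv_mem (pow_mem hx 2))
  have : (d : Spor.Ly) ∈ XX := by
    have e : (d : Spor.Ly) = (d : Spor.Ly) ^ 3 * ((d : Spor.Ly) ^ 2)⁻¹ := by group
    rw [e]
    exact mul_mem hd3 (inv_mem hd2)
  exact hdb (by
    obtain ⟨k, e⟩ := this
    exact smul_base_iff.2 (e ▸ QQ_le_N0 (nf_mem _ _)))

/-- The centraliser of the subgroup of order 3125 is its centre. -/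
theorem cent_QQ {c : Spor.Ly} (hc : ∀ q ∈ QQ, c * q = q * c) : c ∈ XX :=
  cent_N0 (smul_base_iff.1 (cent_base (mem_CC.2 hc))) hc

end CfsgLib.Sporadic.LyOut
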