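import Cfsg.Agent.Lib.Sporadic.LyMult.Words
import Cfsg.Agent.Lib.Sporadic.LyOut.Data

/-!
# The subgroup of order 3125 of the presented Lyons group in normal form (owner: helper21)

Its five generators multiply by an explicit form; endomorphisms of the group that map it into itself act on its
Frattini quotient by four by four matrices over five elements, held by their columns.
-/

set_option autoImplicit false
set_option maxRecDepth 20000

namespace CfsgLib.Sporadic.LyOut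

open Cfsg
open CfsgLib.Sporadic.LyGTwo (P4 L toLy)
open CfsgLib.Sporadic.LyGroup (gl gl_flp)
open CfsgLib.Sporadic.LyMult (eqA eqA_eq toLy_L kapW)

/-- A word in the presented group. -/
noncomputable def wd (w : List ℕ) : Spor.Ly := (w.map gl).prod

theorem wd_append (u v : List ℕ) : wd (u ++ v) = wd u * wd v := by simp [wd]

theorem wd_nil : wd [] = 1 := by simp [wd]

theorem wd_winv (w : List ℕ) : wd (PairEnum.winv w) = (wd w)⁻¹ := PairEnum.prod_winv gl_flp w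

theorem toLy_word {w : List ℕ} (hw : ∀ k ∈ w, k < 8) : toLy (w.map L).prod = wd w := by
  rw [map_list_prod, List.map_map, wd]
  exact congrArg List.prod (List.map_congr_left fun k hk => toLy_L (hw k hk))

theorem wd_eq {u v : List ℕ} (h : eqA u v = true) : wd u = wd v := by
  have h' := h
  simp only [eqA, Bool.and_eq_true, List.all_eq_true, Nat.blt_eq, List.mem_append] at h'
  rw [← toLy_word (fun k hk => h'.1 k (Or.inl hk)), ← toLy_word (fun k hk => h'.1 k (Or.inr hk)), eqA_eq h]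

/-- The word of a generator of the subgroup. -/
def cw (i : ℕ) : List ℕ := kapW.getD i []

/-- A generator of the subgroup. -/
noncomputable def cc (i : ℕ) : Spor.Ly := wd (cw i)

/-- Vectors of the Frattini quotient. -/
abbrev Vec : Type := ZMod 5 × ZMod 5 × ZMod 5 × ZMod 5

/-- A power with exponent modulo five. -/
noncomputable def zp (g : Spor.Ly) (a : ZMod 5) : Spor.Ly := g ^ a.val

theorem zp_add {g : Spor.Ly} (h : g ^ 5 = 1) (a b : ZMod 5) : zp g (a + b) = zp g a * zp g b := by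
  rw [zp, zp, zp, ← pow_add, ZMod.val_add]
  exact (pow_eq_pow_mod _ h).symm

theorem zp_zero (g : Spor.Ly) : zp g 0 = 1 := by simp [zp]

theorem zp_one (g : Spor.Ly) : zp g 1 = g := by simp [zp, ZMod.val_one]

theorem zp_commute {g h : Spor.Ly} (hc : Commute g h) (a b : ZMod 5) : Commute (zp g a) (zp h b) :=
  hc.pow_pow _ _

theorem zp_mul_nat {g : Spor.Ly} (h : g ^ 5 = 1) (n : ℕ) : g ^ n = zp g (n : ZMod 5) := by
  rw [zp, ZMod.val_natCast]
  exact pow_eq_pow_mod _ h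

theorem cc_pow : ∀ i < 5, cc i ^ 5 = 1 := by
  have h : ((List.range 5).all fun i => eqA (cw i ++ cw i ++ cw i ++ cw i ++ cw i) []) = true := by decide +kernel
  intro i hi
  have e := wd_eq (List.all_eq_true.1 h i (List.mem_range.2 hi))
  simp only [wd_append, wd_nil] at e
  rw [pow_succ, pow_succ, pow_succ, pow_succ, pow_one]
  exact e

theorem cc_comm_four : ∀ i < 5, Commute (cc i) (cc 4) := by
  have h : ((List.range 5).all fun i => eqA (cw i ++ cw 4) (cw 4 ++ cw i)) = true := by decide +kernel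
  intro i hi
  have e := wd_eq (List.all_eq_true.1 h i (List.mem_range.2 hi))
  rwa [wd_append, wd_append] at e

theorem move_gen {i j : ℕ} (hi : i < 5) (hj : j < 5) (f : ZMod 5) (h : cc j * cc i = cc i * cc j * zp (cc 4) f)
    (a b : ZMod 5) : zp (cc j) a * zp (cc i) b = zp (cc i) b * zp (cc j) a * zp (cc 4) (f * a * b) := by
  have h4 : cc 4 ^ 5 = 1 := cc_pow 4 (by norm_num)
  have hx : ∀ k, k < 5 → ∀ n : ℕ, ∀ t : ZMod 5, Commute (cc k ^ n) (zp (cc 4) t) := fun k hk n t =>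
    (cc_comm_four k hk).pow_pow _ _
  have one : ∀ m : ℕ, cc j ^ m * cc i = cc i * cc j ^ m * zp (cc 4) (f * m) := by
    intro m
    induction m with
    | zero => simp [zp_zero]
    | succ m ih =>
      rw [pow_succ, mul_assoc, h, ← mul_assoc, ← mul_assoc, ih]
      calc cc i * cc j ^ m * zp (cc 4) (f * m) * cc j * zp (cc 4) f
          = cc i * cc j ^ m * (zp (cc 4) (f * m) * cc j) * zp (cc 4) f := by group
        _ = cc i * cc j ^ m * (cc j * zp (cc 4) (f * m)) * zp (cc 4) f := by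
            rw [show zp (cc 4) (f * m) * cc j = cc j * zp (cc 4) (f * m) from
              (by simpa using (hx j hj 1 (f * m)).eq.symm)]
        _ = cc i * (cc j ^ m * cc j) * (zp (cc 4) (f * m) * zp (cc 4) f) := by group
        _ = cc i * (cc j ^ m * cc j) * zp (cc 4) (f * (m + 1 : ℕ)) := by
            rw [← zp_add h4]
            congr 2
            push_cast
            ring
  have two : ∀ n m : ℕ, cc j ^ m * cc i ^ n = cc i ^ n * cc j ^ m * zp (cc 4) (f * m * n) := by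
    intro n m
    induction n with
    | zero => simp [zp_zero]
    | succ n ih =>
      rw [pow_succ, ← mul_assoc, ih]
      calc cc i ^ n * cc j ^ m * zp (cc 4) (f * m * n) * cc i
          = cc i ^ n * cc j ^ m * (cc i * zp (cc 4) (f * m * n)) := by
            rw [mul_assoc, show zp (cc 4) (f * m * n) * cc i = cc i * zp (cc 4) (f * m * n) from
              (by simpa using (hx i hi 1 (f * m * n)).eq.symm)]
        _ = cc i ^ n * (cc i * cc j ^ m * zp (cc 4) (f * m)) * zp (cc 4) (f * m * n) := by rw [← one]; group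
        _ = cc i ^ n * cc i * cc j ^ m * (zp (cc 4) (f * m) * zp (cc 4) (f * m * n)) := by group
        _ = cc i ^ n * cc i * cc j ^ m * zp (cc 4) (f * m * (n + 1 : ℕ)) := by
            rw [← zp_add h4]
            congr 2
            push_cast
            ring
  have := two b.val a.val
  rwa [ZMod.natCast_zmod_val, ZMod.natCast_zmod_val] at this

/-- The cocycle. -/
def bil (v w : Vec) : ZMod 5 :=
  4 * v.2.1 * w.1 + 2 * v.2.2.1 * w.1 + v.2.2.1 * w.2.1 + 3 * v.2.2.2 * w.1 + v.2.2.2 * w.2.2.1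

/-- The element with given coordinates. -/
noncomputable def nf (v : Vec) (k : ZMod 5) : Spor.Ly :=
  zp (cc 0) v.1 * zp (cc 1) v.2.1 * zp (cc 2) v.2.2.1 * zp (cc 3) v.2.2.2 * zp (cc 4) k

theorem nf_mul (v w : Vec) (k l : ZMod 5) : nf v k * nf w l = nf (v + w) (k + l + bil v w) := by
  have hq : (eqA (cw 1 ++ cw 0) (cw 0 ++ cw 1 ++ cw 4 ++ cw 4 ++ cw 4 ++ cw 4) &&
      eqA (cw 2 ++ cw 0) (cw 0 ++ cw 2 ++ cw 4 ++ cw 4) && eqA (cw 2 ++ cw 1) (cw 1 ++ cw 2 ++ cw 4) &&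
      eqA (cw 3 ++ cw 0) (cw 0 ++ cw 3 ++ cw 4 ++ cw 4 ++ cw 4) && eqA (cw 3 ++ cw 1) (cw 1 ++ cw 3) &&
      eqA (cw 3 ++ cw 2) (cw 2 ++ cw 3 ++ cw 4)) = true := by decide +kernel
  simp only [Bool.and_eq_true] at hq
  obtain ⟨⟨⟨⟨⟨q10, q20⟩, q21⟩, q30⟩, q31⟩, q32⟩ := hq
  have v4 : (4 : ZMod 5).val = 4 := rfl
  have v3 : (3 : ZMod 5).val = 3 := rfl
  have v2 : (2 : ZMod 5).val = 2 := rfl
  have g10 : cc 1 * cc 0 = cc 0 * cc 1 * zp (cc 4) 4 := by
    have e := wd_eq q10; simp only [wd_append] at e; simpa [zp, v4, cc, pow_succ, mul_assoc] using e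
  have g20 : cc 2 * cc 0 = cc 0 * cc 2 * zp (cc 4) 2 := by
    have e := wd_eq q20; simp only [wd_append] at e; simpa [zp, v2, cc, pow_succ, mul_assoc] using e
  have g21 : cc 2 * cc 1 = cc 1 * cc 2 * zp (cc 4) 1 := by
    have e := wd_eq q21; simp only [wd_append] at e; rw [zp_one]; simpa [cc, mul_assoc] using e
  have g30 : cc 3 * cc 0 = cc 0 * cc 3 * zp (cc 4) 3 := by
    have e := wd_eq q30; simp only [wd_append] at e; simpa [zp, v3, cc, pow_succ, mul_assoc] using e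
  have g31 : cc 3 * cc 1 = cc 1 * cc 3 * zp (cc 4) 0 := by
    have e := wd_eq q31; simp only [wd_append] at e; rw [zp_zero, mul_one]; simpa [cc] using e
  have g32 : cc 3 * cc 2 = cc 2 * cc 3 * zp (cc 4) 1 := by
    have e := wd_eq q32; simp only [wd_append] at e; rw [zp_one]; simpa [cc, mul_assoc] using e
  have m10 := move_gen (by norm_num) (by norm_num) 4 g10 v.2.1 w.1
  have m20 := move_gen (by norm_num) (by norm_num) 2 g20 v.2.2.1 w.1
  have m21 := move_gen (by norm_num) (by norm_num) 1 g21 v.2.2.1 w.2.1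
  have m30 := move_gen (by norm_num) (by norm_num) 3 g30 v.2.2.2 w.1
  have m31 := move_gen (by norm_num) (by norm_num) 0 g31 v.2.2.2 w.2.1
  have m32 := move_gen (by norm_num) (by norm_num) 1 g32 v.2.2.2 w.2.2.1
  have cx : ∀ i < 5, ∀ (a t : ZMod 5), Commute (zp (cc 4) t) (zp (cc i) a) := fun i hi a t =>
    (zp_commute (cc_comm_four i hi) a t).symm
  have p : ∀ i < 5, ∀ a b : ZMod 5, zp (cc i) (a + b) = zp (cc i) a * zp (cc i) b := fun i hi a b =>
    zp_add (cc_pow i hi) a b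
  obtain ⟨a0, a1, a2, a3⟩ := v
  obtain ⟨b0, b1, b2, b3⟩ := w
  simp only [nf, bil, Prod.mk_add_mk] at *
  have hx : ∀ (s t : ZMod 5) (X : Spor.Ly), zp (cc 4) s * (zp (cc 4) t * X) = zp (cc 4) (s + t) * X :=
    fun s t X => by rw [p 4 (by norm_num), mul_assoc]
  have c0 : ∀ (a t : ZMod 5) (X : Spor.Ly), zp (cc 4) t * (zp (cc 0) a * X) = zp (cc 0) a * (zp (cc 4) t * X) :=
    fun a t X => by rw [← mul_assoc, (cx 0 (by norm_num) a t).eq, mul_assoc]
  have c1 : ∀ (a t : ZMod 5) (X : Spor.Ly), zp (cc 4) t * (zp (cc 1) a * X) = zp (cc 1) a * (zp (cc 4) t * X) :=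
    fun a t X => by rw [← mul_assoc, (cx 1 (by norm_num) a t).eq, mul_assoc]
  have c2 : ∀ (a t : ZMod 5) (X : Spor.Ly), zp (cc 4) t * (zp (cc 2) a * X) = zp (cc 2) a * (zp (cc 4) t * X) :=
    fun a t X => by rw [← mul_assoc, (cx 2 (by norm_num) a t).eq, mul_assoc]
  have c3 : ∀ (a t : ZMod 5) (X : Spor.Ly), zp (cc 4) t * (zp (cc 3) a * X) = zp (cc 3) a * (zp (cc 4) t * X) :=
    fun a t X => by rw [← mul_assoc, (cx 3 (by norm_num) a t).eq, mul_assoc]
  have n10 : ∀ X, zp (cc 1) a1 * (zp (cc 0) b0 * X) =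
      zp (cc 0) b0 * (zp (cc 1) a1 * (zp (cc 4) (4 * a1 * b0) * X)) := fun X => by
    rw [← mul_assoc, m10]; simp only [mul_assoc]
  have n20 : ∀ X, zp (cc 2) a2 * (zp (cc 0) b0 * X) =
      zp (cc 0) b0 * (zp (cc 2) a2 * (zp (cc 4) (2 * a2 * b0) * X)) := fun X => by
    rw [← mul_assoc, m20]; simp only [mul_assoc]
  have n21 : ∀ X, zp (cc 2) a2 * (zp (cc 1) b1 * X) =
      zp (cc 1) b1 * (zp (cc 2) a2 * (zp (cc 4) (1 * a2 * b1) * X)) := fun X => by
    rw [← mul_assoc, m21]; simp only [mul_assoc]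
  have n30 : ∀ X, zp (cc 3) a3 * (zp (cc 0) b0 * X) =
      zp (cc 0) b0 * (zp (cc 3) a3 * (zp (cc 4) (3 * a3 * b0) * X)) := fun X => by
    rw [← mul_assoc, m30]; simp only [mul_assoc]
  have n31 : ∀ X, zp (cc 3) a3 * (zp (cc 1) b1 * X) =
      zp (cc 1) b1 * (zp (cc 3) a3 * (zp (cc 4) (0 * a3 * b1) * X)) := fun X => by
    rw [← mul_assoc, m31]; simp only [mul_assoc]
  have n32 : ∀ X, zp (cc 3) a3 * (zp (cc 2) b2 * X) =
      zp (cc 2) b2 * (zp (cc 3) a3 * (zp (cc 4) (1 * a3 * b2) * X)) := fun X => by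
    rw [← mul_assoc, m32]; simp only [mul_assoc]
  simp only [p 0 (by norm_num), p 1 (by norm_num), p 2 (by norm_num), p 3 (by norm_num), mul_assoc]
  rw [c0]
  simp only [n30, n20, n10, c1, c2, c3, c0, n31, n21, n32, hx]
  rw [← p 4 (by norm_num)]
  congr 9
  ring

theorem nf_zero : nf 0 0 = 1 := by simp [nf, zp_zero]

theorem nf_inv (v : Vec) (k : ZMod 5) : (nf v k)⁻¹ = nf (-v) (-k + bil v v) := by
  apply inv_eq_of_mul_eq_one_right
  rw [nf_mul, add_neg_cancel, ← nf_zero]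
  congr 1
  obtain ⟨a0, a1, a2, a3⟩ := v
  simp only [bil, Prod.neg_mk]
  ring

/-- The subgroup. -/
noncomputable def QQ : Subgroup Spor.Ly where
  carrier := {g | ∃ v k, g = nf v k}
  one_mem' := ⟨0, 0, nf_zero.symm⟩
  mul_mem' := by
    rintro _ _ ⟨v, k, rfl⟩ ⟨w, l, rfl⟩
    exact ⟨_, _, nf_mul v w k l⟩
  inv_mem' := by
    rintro _ ⟨v, k, rfl⟩
    exact ⟨_, _, nf_inv v k⟩

theorem nf_mem (v : Vec) (k : ZMod 5) : nf v k ∈ QQ := ⟨v, k, rfl⟩

/-- A basis vector. -/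
def unitVec : ℕ → Vec
  | 0 => (1, 0, 0, 0)
  | 1 => (0, 1, 0, 0)
  | 2 => (0, 0, 1, 0)
  | 3 => (0, 0, 0, 1)
  | _ => 0

theorem cc_eq_nf {i : ℕ} (hi : i < 4) : cc i = nf (unitVec i) 0 := by
  interval_cases i <;> simp [nf, unitVec, zp_zero, zp_one]

theorem four_eq_nf : cc 4 = nf 0 1 := by simp [nf, zp_zero, zp_one]

theorem cc_mem {i : ℕ} (hi : i < 5) : cc i ∈ QQ := by
  by_cases h : i < 4
  · rw [cc_eq_nf h]; exact nf_mem _ _
  · obtain rfl : i = 4 := by omega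
    rw [four_eq_nf]; exact nf_mem _ _

theorem QQ_card_le : Finite QQ ∧ Nat.card QQ ≤ 3125 := by
  let f : Vec × ZMod 5 → QQ := fun p => ⟨nf p.1 p.2, nf_mem _ _⟩
  have hf : Function.Surjective f := by
    rintro ⟨g, v, k, rfl⟩
    exact ⟨(v, k), rfl⟩
  refine ⟨Finite.of_surjective f hf, ?_⟩
  have := Nat.card_le_card_of_surjective f hf
  simpa [Nat.card_prod] using this

/-! ### matrices -/

/-- Matrices by columns. -/
abbrev Cols : Type := Vec × Vec × Vec × Vec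

/-- A scalar times a vector. -/
def sm (a : ZMod 5) (v : Vec) : Vec := (a * v.1, a * v.2.1, a * v.2.2.1, a * v.2.2.2)

/-- Applying a matrix. -/
def app (M : Cols) (v : Vec) : Vec :=
  sm v.1 M.1 + sm v.2.1 M.2.1 + sm v.2.2.1 M.2.2.1 + sm v.2.2.2 M.2.2.2

/-- The product. -/
def comp (M N : Cols) : Cols := (app M N.1, app M N.2.1, app M N.2.2.1, app M N.2.2.2)

/-- The identity. -/
def idC : Cols := (unitVec 0, unitVec 1, unitVec 2, unitVec 3)

theorem app_comp (M N : Cols) (v : Vec) : app (comp M N) v = app M (app N v) := by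
  obtain ⟨⟨m00, m01, m02, m03⟩, ⟨m10, m11, m12, m13⟩, ⟨m20, m21, m22, m23⟩, ⟨m30, m31, m32, m33⟩⟩ := M
  obtain ⟨⟨n00, n01, n02, n03⟩, ⟨n10, n11, n12, n13⟩, ⟨n20, n21, n22, n23⟩, ⟨n30, n31, n32, n33⟩⟩ := N
  obtain ⟨a0, a1, a2, a3⟩ := v
  simp only [app, comp, sm, Prod.mk_add_mk, Prod.mk.injEq]
  exact ⟨by ring, by ring, by ring, by ring⟩

theorem comp_assoc (M N K : Cols) : comp (comp M N) K = comp M (comp N K) := by
  show (app (comp M N) K.1, app (comp M N) K.2.1, app (comp M N) K.2.2.1, app (comp M N) K.2.2.2) = _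
  simp only [app_comp]
  rfl

theorem app_id (v : Vec) : app idC v = v := by
  obtain ⟨a0, a1, a2, a3⟩ := v
  simp [app, idC, sm, unitVec]

theorem id_comp (M : Cols) : comp idC M = M := by simp [comp, app_id]

theorem comp_id (M : Cols) : comp M idC = M := by
  obtain ⟨⟨m00, m01, m02, m03⟩, ⟨m10, m11, m12, m13⟩, ⟨m20, m21, m22, m23⟩, ⟨m30, m31, m32, m33⟩⟩ := M
  simp [comp, idC, unitVec, app, sm]

/-- `f` acts on the Frattini quotient by `M`. -/
def Lin (f : Spor.Ly →* Spor.Ly) (M : Cols) : Prop := ∀ v k, ∃ l, f (nf v k) = nf (app M v) l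

theorem Lin.comp {f g : Spor.Ly →* Spor.Ly} {M N : Cols} (hf : Lin f M) (hg : Lin g N) :
    Lin (f.comp g) (LyOut.comp M N) := by
  intro v k
  obtain ⟨l, e⟩ := hg v k
  obtain ⟨m, e'⟩ := hf (app N v) l
  exact ⟨m, by rw [MonoidHom.comp_apply, e, e', app_comp]⟩

theorem Lin.mem {f : Spor.Ly →* Spor.Ly} {M : Cols} (hf : Lin f M) {q : Spor.Ly} (hq : q ∈ QQ) : f q ∈ QQ := by
  obtain ⟨v, k, rfl⟩ := hq
  obtain ⟨l, e⟩ := hf v k
  exact ⟨_, _, e⟩

theorem pow_nf (v : Vec) (k : ZMod 5) : ∀ n : ℕ, ∃ l, nf v k ^ n = nf (sm n v) l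
  | 0 => ⟨0, by rw [pow_zero, ← nf_zero]; congr 1; simp [sm]; rfl⟩
  | n + 1 => by
    obtain ⟨l, e⟩ := pow_nf v k n
    refine ⟨l + k + bil (sm n v) v, ?_⟩
    rw [pow_succ, e, nf_mul]
    congr 1
    obtain ⟨a0, a1, a2, a3⟩ := v
    simp [sm, Prod.mk_add_mk, add_mul]

theorem zp_nf (a : ZMod 5) (v : Vec) (k : ZMod 5) : ∃ l, zp (nf v k) a = nf (sm a v) l := by
  obtain ⟨l, e⟩ := pow_nf v k a.val
  exact ⟨l, by rw [zp, e, ZMod.natCast_zmod_val]⟩

/-- The images of the generators determine the matrix. -/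
theorem lin_of_gens {f : Spor.Ly →* Spor.Ly} {M : Cols} (h0 : ∃ l, f (cc 0) = nf M.1 l)
    (h1 : ∃ l, f (cc 1) = nf M.2.1 l) (h2 : ∃ l, f (cc 2) = nf M.2.2.1 l) (h3 : ∃ l, f (cc 3) = nf M.2.2.2 l)
    (h4 : ∃ l, f (cc 4) = nf 0 l) : Lin f M := by
  intro v k
  obtain ⟨l0, e0⟩ := h0
  obtain ⟨l1, e1⟩ := h1
  obtain ⟨l2, e2⟩ := h2
  obtain ⟨l3, e3⟩ := h3
  obtain ⟨l4, e4⟩ := h4
  obtain ⟨n0, d0⟩ := zp_nf v.1 M.1 l0
  obtain ⟨n1, d1⟩ := zp_nf v.2.1 M.2.1 l1
  obtain ⟨n2, d2⟩ := zp_nf v.2.2.1 M.2.2.1 l2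
  obtain ⟨n3, d3⟩ := zp_nf v.2.2.2 M.2.2.2 l3
  obtain ⟨n4, d4⟩ := zp_nf k 0 l4
  have hm : ∀ g a, f (zp g a) = zp (f g) a := fun g a => map_pow f _ _
  have hk : sm k (0 : Vec) = 0 := by simp [sm]
  have e : f (nf v k) = nf (sm v.1 M.1) n0 * nf (sm v.2.1 M.2.1) n1 * nf (sm v.2.2.1 M.2.2.1) n2 *
      nf (sm v.2.2.2 M.2.2.2) n3 * nf 0 n4 := by
    rw [nf, map_mul, map_mul, map_mul, map_mul, hm, hm, hm, hm, hm, e0, e1, e2, e3, e4, d0, d1, d2, d3, d4, hk]
  rw [nf_mul, nf_mul, nf_mul, nf_mul, add_zero] at e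
  exact ⟨_, e⟩

end CfsgLib.Sporadic.LyOut
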